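import Groth.Agent.Lib.Cohen.Ring
import Groth.Agent.Lib.AdicSmooth.CompleteLift
import Groth.Agent.Lib.AdicSmooth.FieldFS
import Groth.Prelude.Def_EGA41

/-! # Cohen rings: existence, mapping to complete rings, rigidity -/

set_option autoImplicit false
universe u

namespace Groth.Agent.Cohen

open IsLocalRing

/-- A complete filtered ring with residue field `k` of characteristic `p` receives a Cohen ring with residue field `k`. -/
theorem exists_cohen_map {p : ℕ} [hp : Fact p.Prime] {k : Type u} [Field k] [CharP k p] {A : Type u}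
    [CommRing A] (F : Filt A) (π : A →+* k) (hπ : Function.Surjective π) (hker : F.I 1 = RingHom.ker π) :
    ∃ (Λ : Type u) (_ : CommRing Λ) (_ : IsLocalRing Λ) (f : Λ →+* A), CAlg.IsCohenRing Λ ∧
      maximalIdeal Λ = Ideal.span {((p : ℕ) : Λ)} ∧
      RingHom.ker (π.comp f) = maximalIdeal Λ ∧ Function.Surjective (π.comp f) := by
  let Q : Subring (A × WittVector p k) := RingHom.eqLocus (π.comp (RingHom.fst A _))
    ((WittVector.constantCoeff : WittVector p k →+* k).comp (RingHom.snd A _))
  have hQ : ∀ x : A × WittVector p k, x ∈ Q ↔ π x.1 = x.2.coeff 0 := fun _ => Iff.rfl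
  have hW1 : ∀ w : WittVector p k, w ∈ (wittFilt p k).I 1 ↔ w.coeff 0 = 0 := fun w =>
    (WittVector.mem_ker_truncate 1 w).trans ⟨fun h => h 0 Nat.one_pos, fun h i hi => Nat.lt_one_iff.mp hi ▸ h⟩
  let G := F.prod (wittFilt p k)
  have hclosed : ∀ x, (∀ n, ∃ y ∈ Q, x - y ∈ G.I n) → x ∈ Q := fun x hx => by
    obtain ⟨y, hy, h1, h2⟩ := hx 1
    rw [hQ] at hy ⊢
    have e1 : π x.1 = π y.1 := sub_eq_zero.mp (by rw [← map_sub]; exact (mem_ker_iff hker).mp h1)
    have e2 : x.2.coeff 0 = y.2.coeff 0 := by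
      have := (hW1 _).mp h2
      rw [← sub_eq_zero, ← this]
      exact (map_sub (WittVector.constantCoeff : WittVector p k →+* k) x.2 y.2).symm
    rw [e1, hy, e2]
  let H := G.restrict Q hclosed
  let π' : Q →+* k := π.comp ((RingHom.fst A _).comp Q.subtype)
  have hπ' : Function.Surjective π' := fun c => by
    obtain ⟨a, rfl⟩ := hπ c
    exact ⟨⟨(a, WittVector.teichmuller p (π a)), (WittVector.teichmuller_coeff_zero p _).symm⟩, rfl⟩
  have hker' : H.I 1 = RingHom.ker π' := by
    ext x
    refine ⟨fun h => (mem_ker_iff hker).mp h.1, fun h => ⟨(mem_ker_iff hker).mpr h, ?_⟩⟩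
    refine (hW1 _).mpr ?_
    exact (x.2 : π x.1.1 = x.1.2.coeff 0).symm.trans h
  obtain ⟨Λ, hloc, hΛ, hmax, hk, hs⟩ := exists_cohen_subring (p := p) H π' hπ' hker'
    ((RingHom.snd A _).comp Q.subtype) (fun x => x.2.symm) (fun n x hx => hx.2)
  exact ⟨Λ, inferInstance, hloc, ((RingHom.fst A _).comp Q.subtype).comp Λ.subtype, hΛ, hmax, hk, hs⟩

/-- The trivial filtration of a field. -/
noncomputable def fieldFilt (k : Type u) [Field k] : Filt k where
  I n := if n = 0 then ⊤ else ⊥
  zero := if_pos rfl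
  anti n := by simp
  mul n := by simp
  haus x hx := by simpa using hx 1
  complete f hf := ⟨f 1, fun n => by
    rcases n with _ | n
    · simp
    · induction n with
      | zero => simp
      | succ n ih =>
        have h := hf (n + 1)
        simp only [Nat.succ_ne_zero, if_false, Submodule.mem_bot, sub_eq_zero] at h ih ⊢
        rw [h, ih]⟩

theorem exists_cohenRing (p : ℕ) [Fact p.Prime] (k : Type u) [Field k] [CharP k p] :
    ∃ (Λ : Type u) (_ : CommRing Λ) (_ : IsLocalRing Λ), CAlg.IsCohenRing Λ ∧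
      Nonempty (ResidueField Λ ≃+* k) := by
  obtain ⟨Λ, i1, i2, f, hΛ, -, hk, hs⟩ := exists_cohen_map (p := p) (fieldFilt k) (RingHom.id k)
    Function.surjective_id (by
      rw [RingHom.ker_eq_bot_iff_eq_zero (RingHom.id k) |>.mpr fun x hx => hx]
      simp [fieldFilt])
  exact ⟨Λ, i1, i2, hΛ, ⟨(Ideal.quotEquivOfEq hk.symm).trans (RingHom.quotientKerEquivOfSurjective hs)⟩⟩

theorem eq_zero_of_mem_pow {W : Type u} [CommRing W] [IsLocalRing W] [IsNoetherianRing W] (J : Ideal W) (hJ : J ≠ ⊤)
    (x : W) (hx : ∀ n, x ∈ J ^ n) : x = 0 := by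
  have h : x ∈ ⨅ n, J ^ n := Ideal.mem_iInf.mpr hx
  rwa [Ideal.iInf_pow_eq_bot_of_isLocalRing J hJ, Ideal.mem_bot] at h

/-- A map of DVRs with uniformizer `p`, complete source, separated target, inducing a surjection on residue rings is bijective. -/
theorem bijective_of_residue {p : ℕ} {R W : Type u} [CommRing R] [IsDomain R] [IsDiscreteValuationRing R]
    [IsAdicComplete (maximalIdeal R) R] [CommRing W] [IsDomain W] [IsDiscreteValuationRing W]
    (hR : maximalIdeal R = Ideal.span {(p : R)}) (hW : maximalIdeal W = Ideal.span {(p : W)})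
    (f : R →+* W) [IsLocalHom f]
    (hsurj : ∀ w : W, ∃ r : R, w - f r ∈ maximalIdeal W) : Function.Bijective f := by
  have hirr : Irreducible (p : R) := (IsDiscreteValuationRing.irreducible_iff_uniformizer _).mpr hR
  have hirrW : Irreducible (p : W) := (IsDiscreteValuationRing.irreducible_iff_uniformizer _).mpr hW
  refine ⟨(injective_iff_map_eq_zero f).mpr fun x hx => by_contra fun h0 => ?_, fun w => ?_⟩
  · obtain ⟨n, u, rfl⟩ := IsDiscreteValuationRing.eq_unit_mul_pow_irreducible h0 hirr
    rw [map_mul, map_pow, map_natCast] at hx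
    exact mul_ne_zero (u.isUnit.map f).ne_zero (pow_ne_zero n hirrW.ne_zero) hx
  · have step : ∀ (n : ℕ) (x : R), w - f x ∈ maximalIdeal W ^ n →
        ∃ x', x' - x ∈ maximalIdeal R ^ n ∧ w - f x' ∈ maximalIdeal W ^ (n + 1) := by
      intro n x hx
      rw [hW, Ideal.span_singleton_pow, Ideal.mem_span_singleton] at hx
      obtain ⟨v, hv⟩ := hx
      obtain ⟨r, hr⟩ := hsurj v
      refine ⟨x + (p : R) ^ n * r, ?_, ?_⟩
      · rw [add_sub_cancel_left, hR, Ideal.span_singleton_pow]
        exact Ideal.mul_mem_right _ _ (Ideal.mem_span_singleton_self _)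
      · rw [map_add, map_mul, map_pow, map_natCast, ← sub_sub, hv, ← mul_sub, pow_succ]
        exact Ideal.mul_mem_mul (Ideal.pow_mem_pow (hW ▸ Ideal.mem_span_singleton_self _) n) hr
    choose nxt h1 h2 using step
    let g : ∀ n, {x : R // w - f x ∈ maximalIdeal W ^ n} :=
      fun n => Nat.rec ⟨0, by simp⟩ (fun m x => ⟨nxt m x.1 x.2, h2 m x.1 x.2⟩) n
    obtain ⟨r, hr⟩ := (Filt.ofAdic (maximalIdeal R)).complete (fun n => (g n).1) fun n => h1 n _ _
    refine ⟨r, (sub_eq_zero.mp (eq_zero_of_mem_pow _ (maximalIdeal.isMaximal W).ne_top _ fun n => ?_)).symm⟩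
    rw [show w - f r = (w - f (g n).1) - f (r - (g n).1) by rw [map_sub]; ring]
    have : f (r - (g n).1) ∈ maximalIdeal W ^ n := by
      have h := Ideal.mem_map_of_mem f (hr n)
      rw [show (Filt.ofAdic (maximalIdeal R)).I n = maximalIdeal R ^ n from rfl, Ideal.map_pow] at h
      exact Ideal.pow_right_mono (show (maximalIdeal R).map f ≤ maximalIdeal W from
        Ideal.map_le_iff_le_comap.mpr fun a ha => map_nonunit f a ha) n h
    exact sub_mem (g n).2 this

theorem Filt.I_mul_self_le {A : Type u} [CommRing A] (F : Filt A) (n : ℕ) : F.I (n + 1) ^ 2 ≤ F.I (n + 1 + 1) := by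
  rw [pow_two]
  exact (Ideal.mul_mono_left (F.antitone (Nat.le_add_left 1 n))).trans (F.mul (n + 1))

/-- Lifting from a field of characteristic zero. -/
theorem exists_lift_charZero {K : Type u} [Field K] [CharZero K] {A : Type u} [CommRing A] (F : Filt A)
    (π : A →+* K) (hπ : Function.Surjective π) (hker : F.I 1 = RingHom.ker π) :
    ∃ g : K →+* A, ∀ x, π (g x) = x := by
  have hunit : ∀ y : nonZeroDivisors ℤ, IsUnit ((Int.castRingHom A) y) := fun y => by
    obtain ⟨b, hb⟩ := hπ ((y : ℤ) : K)⁻¹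
    have h1 : (1 - ((y : ℤ) : A) * b) ∈ F.I 1 := by
      rw [mem_ker_iff hker, map_sub, map_one, map_mul, map_intCast, hb,
        mul_inv_cancel₀ (Int.cast_ne_zero.mpr (nonZeroDivisors.coe_ne_zero y)), sub_self]
    have h := F.isUnit_one_sub h1
    rw [sub_sub_cancel] at h
    exact isUnit_of_mul_isUnit_left h
  let φ : ℚ →+* A := IsLocalization.lift (M := nonZeroDivisors ℤ) hunit
  let k0 := ULift.{u} ℚ
  letI : Algebra k0 A := (φ.comp (ULift.ringEquiv : k0 ≃+* ℚ).toRingHom).toAlgebra
  letI : Algebra k0 K := (π.comp (algebraMap k0 A)).toAlgebra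
  haveI : CharZero k0 := (ULift.ringEquiv : k0 ≃+* ℚ).toRingHom.charZero
  haveI : PerfectField k0 := PerfectField.ofCharZero
  haveI : Algebra.FormallySmooth k0 K := FieldFS.formallySmooth_of_perfectField k0 K
  let e : (A ⧸ F.I 1) ≃+* K := (Ideal.quotEquivOfEq hker).trans (RingHom.quotientKerEquivOfSurjective hπ)
  have he : ∀ a, e (Ideal.Quotient.mk _ a) = π a := fun _ => rfl
  let u0 : K →ₐ[k0] A ⧸ F.I 1 := { e.symm.toRingHom with
    commutes' := fun r => e.injective (by
      show e (e.symm _) = e _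
      rw [e.apply_symm_apply]
      exact (he _).symm) }
  have step : ∀ n (g : K →ₐ[k0] A ⧸ F.I (n + 1)), ∃ g' : K →ₐ[k0] A ⧸ F.I (n + 1 + 1),
      ∀ x, Ideal.Quotient.factor (F.anti (n + 1)) (g' x) = g x :=
    fun n g => AdicSmooth.exists_step (F.anti (n + 1)) (F.I_mul_self_le n) g
  choose nxt hnxt using step
  let g : ∀ n, K →ₐ[k0] A ⧸ F.I (n + 1) := fun n => Nat.rec u0 nxt n
  let lift : K → ℕ → A := fun x n => Function.surjInv Ideal.Quotient.mk_surjective (g n x)
  have hlift : ∀ x n, Ideal.Quotient.mk (F.I (n + 1)) (lift x n) = g n x := fun x n =>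
    Function.surjInv_eq Ideal.Quotient.mk_surjective _
  have hc : ∀ x n, lift x (n + 1) - lift x n ∈ F.I (n + 1) := fun x n => by
    rw [← Ideal.Quotient.eq, hlift, ← Ideal.Quotient.factor_mk (F.anti (n + 1)), hlift]
    exact hnxt n (g n) x
  choose L hL using fun x => F.complete (lift x) fun n => F.anti n (hc x n)
  have hL' : ∀ x n, Ideal.Quotient.mk (F.I (n + 1)) (L x) = g n x := fun x n => by
    rw [← hlift, Ideal.Quotient.eq, show L x - lift x n = (L x - lift x (n + 1)) + (lift x (n + 1) - lift x n) by ring]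
    exact add_mem (hL x (n + 1)) (hc x n)
  have huniq : ∀ a b : A, (∀ n, Ideal.Quotient.mk (F.I (n + 1)) a = Ideal.Quotient.mk (F.I (n + 1)) b) → a = b :=
    fun a b h => sub_eq_zero.mp (F.haus _ fun n => F.anti n (Ideal.Quotient.eq.mp (h n)))
  refine ⟨{ toFun := L
            map_one' := huniq _ _ fun n => by rw [hL', map_one, map_one]
            map_mul' := fun x y => huniq _ _ fun n => by rw [map_mul, hL', hL', hL', map_mul]
            map_zero' := huniq _ _ fun n => by rw [hL', map_zero, map_zero]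
            map_add' := fun x y => huniq _ _ fun n => by rw [map_add, hL', hL', hL', map_add] }, fun x => ?_⟩
  show π (L x) = x
  rw [← he, show Ideal.Quotient.mk (F.I 1) (L x) = u0 x from hL' x 0]
  exact e.apply_symm_apply x

/-- A Cohen ring maps to every complete filtered ring with the same residue field. -/
theorem exists_lift {W : Type u} [CommRing W] [IsLocalRing W] (hW : EGA41.IsCohenRingEGA W) {A : Type u}
    [CommRing A] (F : Filt A) (π : A →+* ResidueField W) (hπ : Function.Surjective π) (hker : F.I 1 = RingHom.ker π) :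
    ∃ g : W →+* A, ∀ w, π (g w) = residue W w := by
  rcases hW with ⟨hF, h0⟩ | ⟨hdom, hdvr, hcpl, q, hq, hmax⟩
  · letI := hF.toField
    haveI : CharZero (ResidueField W) := charZero_of_inj_zero fun n hn => by_contra fun h => by
      obtain ⟨b, hb⟩ := hF.mul_inv_cancel (Nat.cast_ne_zero.mpr h : (n : W) ≠ 0)
      have h1 := congrArg (residue W) hb
      rw [map_mul, map_natCast, hn, zero_mul, map_one] at h1
      exact zero_ne_one h1
    obtain ⟨g, hg⟩ := exists_lift_charZero F π hπ hker
    exact ⟨g.comp (residue W), fun w => hg _⟩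
  haveI : Fact q.Prime := ⟨hq⟩
  haveI : CharP (ResidueField W) q := (CharP.charP_iff_prime_eq_zero hq).mpr (by
    rw [← map_natCast (residue W), residue_eq_zero_iff]
    exact hmax ▸ Ideal.mem_span_singleton_self _)
  let Q : Subring (A × W) := RingHom.eqLocus (π.comp (RingHom.fst A W)) ((residue W).comp (RingHom.snd A W))
  let G := F.prod (Filt.ofAdic (maximalIdeal W))
  have hW1 : ∀ w : W, w ∈ (Filt.ofAdic (maximalIdeal W)).I 1 ↔ residue W w = 0 := fun w => by
    rw [residue_eq_zero_iff, show (Filt.ofAdic (maximalIdeal W)).I 1 = maximalIdeal W ^ 1 from rfl, pow_one]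
  let H := G.restrict Q fun x hx => by
    obtain ⟨y, hy, h1, h2⟩ := hx 1
    have e1 : π x.1 = π y.1 := sub_eq_zero.mp (by rw [← map_sub]; exact (mem_ker_iff hker).mp h1)
    have e2 : residue W x.2 = residue W y.2 := sub_eq_zero.mp (by rw [← map_sub]; exact (hW1 _).mp h2)
    exact e1.trans ((show π y.1 = residue W y.2 from hy).trans e2.symm)
  let π' : Q →+* ResidueField W := π.comp ((RingHom.fst A W).comp Q.subtype)
  have hπ' : Function.Surjective π' := fun c => by
    obtain ⟨a, rfl⟩ := hπ c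
    obtain ⟨w, hw⟩ := residue_surjective (R := W) (π a)
    exact ⟨⟨(a, w), hw.symm⟩, rfl⟩
  have hker' : H.I 1 = RingHom.ker π' := by
    ext x
    exact ⟨fun h => (mem_ker_iff hker).mp h.1, fun h => ⟨(mem_ker_iff hker).mpr h, (hW1 _).mpr (x.2.symm.trans h)⟩⟩
  obtain ⟨Λ, i1, i2, f, hΛ, hΛmax, hk, hs⟩ := exists_cohen_map (p := q) H π' hπ' hker'
  obtain ⟨i3, i4, i5, -⟩ := hΛ
  let g : Λ →+* W := ((RingHom.snd A W).comp Q.subtype).comp f
  have hg : ∀ x, residue W (g x) = π' (f x) := fun x => (f x).2.symm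
  haveI : IsLocalHom g := ⟨fun x hx => by
    by_contra hcon
    have h1 : x ∈ maximalIdeal Λ := hcon
    rw [← hk, RingHom.mem_ker, RingHom.comp_apply, ← hg, residue_eq_zero_iff] at h1
    exact h1 hx⟩
  have hb : Function.Bijective g := bijective_of_residue hΛmax hmax g fun w => by
    obtain ⟨r, hr⟩ := hs (residue W w)
    exact ⟨r, by rw [← residue_eq_zero_iff, map_sub, hg, ← RingHom.comp_apply, hr, sub_self]⟩
  let e := RingEquiv.ofBijective g hb
  refine ⟨((RingHom.fst A W).comp Q.subtype).comp (f.comp e.symm.toRingHom), fun w => ?_⟩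
  exact (f (e.symm w)).2.trans (congrArg (residue W) (e.apply_symm_apply w))

/-- An endomorphism of a Cohen ring inducing the identity on the residue field is bijective. -/
theorem bijective_of_isCohen {W W' : Type u} [CommRing W] [IsLocalRing W] [CommRing W'] [IsLocalRing W']
    (hW : EGA41.IsCohenRingEGA W) (hW' : EGA41.IsCohenRingEGA W') (f : W →+* W')
    (e : ResidueField W ≃+* ResidueField W') (hf : ∀ w, residue W' (f w) = e (residue W w)) :
    Function.Bijective f := by
  haveI : IsLocalHom f := ⟨fun x hx => by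
    by_contra hcon
    have h := hf x
    rw [(residue_eq_zero_iff x).mpr hcon, map_zero, residue_eq_zero_iff] at h
    exact h hx⟩
  have hchar : ∀ n : ℕ, (n : W) ∈ maximalIdeal W ↔ (n : W') ∈ maximalIdeal W' := fun n => by
    rw [← residue_eq_zero_iff, ← residue_eq_zero_iff, map_natCast, map_natCast, ← map_natCast e,
      map_eq_zero_iff e e.injective]
  rcases hW with ⟨hF, h0⟩ | ⟨hdom, hdvr, hcpl, q, hq, hmax⟩
  · rcases hW' with ⟨hF', -⟩ | ⟨hdom', hdvr', hcpl', q', hq', hmax'⟩
    · refine ⟨(injective_iff_map_eq_zero f).mpr fun x hx => by_contra fun h => ?_, fun y => ?_⟩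
      · exact not_isUnit_zero (hx ▸ ((hF.mul_inv_cancel h).elim fun b hb => (IsUnit.of_mul_eq_one b hb).map f))
      · obtain ⟨x, hx⟩ := residue_surjective (e.symm (residue W' y))
        refine ⟨x, ?_⟩
        have h1 : residue W' (f x - y) = 0 := by rw [map_sub, hf, hx, e.apply_symm_apply, sub_self]
        rw [residue_eq_zero_iff] at h1
        by_contra hne
        obtain ⟨b, hb⟩ := hF'.mul_inv_cancel (sub_ne_zero.mpr hne)
        exact h1 (IsUnit.of_mul_eq_one b hb)
    · exfalso
      have h := (hchar q').mpr (hmax' ▸ Ideal.mem_span_singleton_self _)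
      obtain ⟨b, hb⟩ := hF.mul_inv_cancel (Nat.cast_ne_zero.mpr hq'.ne_zero : (q' : W) ≠ 0)
      exact h (IsUnit.of_mul_eq_one b hb)
  have hq' := (hchar q).mp (hmax ▸ Ideal.mem_span_singleton_self _)
  rcases hW' with ⟨hF', h0'⟩ | ⟨hdom', hdvr', hcpl', q', hp', hmax'⟩
  · exfalso
    obtain ⟨b, hb⟩ := hF'.mul_inv_cancel (Nat.cast_ne_zero.mpr hq.ne_zero : (q : W') ≠ 0)
    exact hq' (IsUnit.of_mul_eq_one b hb)
  obtain rfl : q = q' := by
    by_contra hne
    have hco : Nat.Coprime q q' := (Nat.coprime_primes hq hp').mpr hne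
    obtain ⟨a, b, hab⟩ := Nat.isCoprime_iff_coprime.mpr hco
    have h1 : ((a * q + b * q' : ℤ) : W') ∈ maximalIdeal W' := by
      push_cast
      exact add_mem (Ideal.mul_mem_left _ _ hq') (Ideal.mul_mem_left _ _ (hmax' ▸ Ideal.mem_span_singleton_self _))
    rw [hab, Int.cast_one] at h1
    exact h1 isUnit_one
  exact bijective_of_residue hmax hmax' f fun w => by
    obtain ⟨r, hr⟩ := residue_surjective (e.symm (residue W' w))
    exact ⟨r, by rw [← residue_eq_zero_iff, map_sub, hf, hr, e.apply_symm_apply, sub_self]⟩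

end Groth.Agent.Cohen
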