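import Groth.Agent.Lib.Cohen.Lift
import Groth.Agent.Lib.H2Alg.PSHom
import Mathlib

/-! # Cohen structure theorem: complete Noetherian local rings are quotients of regular local rings -/

set_option autoImplicit false
universe u

namespace Groth.Agent.Cohen

open IsLocalRing MvPowerSeries H2Alg

theorem maximalIdeal_mvPowerSeries (A : Type u) [CommRing A] [IsLocalRing A] (n : ℕ) :
    maximalIdeal (MvPowerSeries (Fin n) A) = (maximalIdeal A).map (C : A →+* _) ⊔ PSHom.V n A := by
  refine le_antisymm (fun f hf => ?_) (sup_le ?_ ?_)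
  · rw [mem_maximalIdeal, mem_nonunits_iff, isUnit_iff_constantCoeff] at hf
    rw [← add_sub_cancel (C (constantCoeff f)) f]
    refine Submodule.add_mem_sup (Ideal.mem_map_of_mem _ hf) ?_
    have := PSHom.mem_pow (m := 1) (f := f - C (constantCoeff f)) fun d hd => by
      rw [Nat.lt_one_iff, Finsupp.degree_eq_zero_iff] at hd
      subst hd
      simp
    rwa [pow_one] at this
  · refine Ideal.map_le_iff_le_comap.mpr fun a ha => ?_
    show C a ∈ maximalIdeal _
    rw [mem_maximalIdeal, mem_nonunits_iff, isUnit_iff_constantCoeff, constantCoeff_C]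
    exact ha
  · refine Ideal.span_le.mpr ?_
    rintro _ ⟨i, rfl⟩
    rw [SetLike.mem_coe, mem_maximalIdeal, mem_nonunits_iff, isUnit_iff_constantCoeff, constantCoeff_X]
    exact not_isUnit_zero

theorem add_le_ringKrullDim (A : Type u) [CommRing A] [Nontrivial A] (n : ℕ) :
    ringKrullDim A + n ≤ ringKrullDim (MvPowerSeries (Fin n) A) := by
  induction n with
  | zero =>
    rw [Nat.cast_zero, add_zero]
    exact ringKrullDim_le_of_surjective (constantCoeff : MvPowerSeries (Fin 0) A →+* A)
      fun a => ⟨C a, constantCoeff_C a⟩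
  | succ n ih =>
    rw [ringKrullDim_eq_of_ringEquiv (MvPowerSeries.finSuccEquiv A n).toRingEquiv, Nat.cast_add, Nat.cast_one,
      ← add_assoc]
    exact le_trans (add_le_add ih le_rfl) ringKrullDim_succ_le_ringKrullDim_powerseries

theorem isRegularLocalRing_mvPowerSeries (A : Type u) [CommRing A] [IsRegularLocalRing A] (n : ℕ) :
    IsRegularLocalRing (MvPowerSeries (Fin n) A) := by
  obtain ⟨s, hs⟩ := Submodule.FG.exists_span_set_encard_eq_spanFinrank (IsNoetherian.noetherian (maximalIdeal A))
  have hfin : s.Finite := Set.finite_of_encard_eq_coe hs.1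
  have hcard : s.ncard = (maximalIdeal A).spanFinrank := by
    rw [Set.ncard_def, hs.1]; rfl
  refine IsRegularLocalRing.of_spanFinrank_maximalIdeal_le _ ?_
  have h1 : (maximalIdeal (MvPowerSeries (Fin n) A)).spanFinrank ≤ (maximalIdeal A).spanFinrank + n := by
    rw [maximalIdeal_mvPowerSeries, ← hs.2, show Submodule.span A s = Ideal.span s from rfl, Ideal.map_span,
      PSHom.V, ← Ideal.span_union, Ideal.span]
    refine (Submodule.spanFinrank_span_le_ncard_of_finite ((hfin.image _).union (Set.finite_range _))).trans ?_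
    refine (Set.ncard_union_le _ _).trans (add_le_add ((Set.ncard_image_le hfin).trans (hcard.le.trans ?_)) ?_)
    · rw [← hs.2]
    · rw [← Set.image_univ]
      exact (Set.ncard_image_le Set.finite_univ).trans (by simp)
  refine le_trans ?_ (add_le_ringKrullDim A n)
  rw [← IsRegularLocalRing.spanFinrank_maximalIdeal (R := A), ← Nat.cast_add]
  exact_mod_cast h1

/-- A complete Noetherian local ring receives a regular local ring (a field or a Cohen ring) surjecting on the residue field. -/
theorem exists_coefficient_ring (A : Type u) [CommRing A] [IsLocalRing A] [IsAdicComplete (maximalIdeal A) A] :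
    ∃ (Λ : Type u) (_ : CommRing Λ) (_ : IsRegularLocalRing Λ) (f : Λ →+* A),
      Function.Surjective ((residue A).comp f) := by
  have hI : (Filt.ofAdic (maximalIdeal A)).I 1 = RingHom.ker (residue A) := by
    rw [ker_residue]
    exact pow_one _
  obtain ⟨q, hq⟩ := CharP.exists (ResidueField A)
  rcases CharP.char_is_prime_or_zero (ResidueField A) q with hp | hp
  · haveI : Fact q.Prime := ⟨hp⟩
    obtain ⟨Λ, i1, i2, f, ⟨i3, i4, -⟩, -, -, hs⟩ := exists_cohen_map (p := q) _ (residue A) residue_surjective hI
    exact ⟨Λ, i1, inferInstance, f, hs⟩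
  · subst hp
    haveI : CharZero (ResidueField A) := CharP.charP_to_charZero _
    obtain ⟨g, hg⟩ := exists_lift_charZero _ (residue A) residue_surjective hI
    exact ⟨ResidueField A, inferInstance, inferInstance, g, fun x => ⟨x, hg x⟩⟩

/-- **Cohen structure theorem.** -/
theorem exists_regular_surjection (A : Type u) [CommRing A] [IsLocalRing A] [IsNoetherianRing A]
    [IsAdicComplete (maximalIdeal A) A] :
    ∃ (R : Type u) (_ : CommRing R) (_ : IsRegularLocalRing R) (f : R →+* A), Function.Surjective f := by
  obtain ⟨Λ, i1, i2, g, hg⟩ := exists_coefficient_ring A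
  letI : Algebra Λ A := g.toAlgebra
  obtain ⟨n, z, hz⟩ := Submodule.fg_iff_exists_fin_generating_family.mp (IsNoetherian.noetherian (maximalIdeal A))
  obtain ⟨ψ, hψ⟩ := PSHom.exists_algHom (A := Λ) (maximalIdeal A) z fun i => hz ▸ Submodule.subset_span ⟨i, rfl⟩
  have hV : (PSHom.V n Λ).map ψ = maximalIdeal A := by
    rw [PSHom.V, Ideal.map_span, ← Set.range_comp, show (ψ ∘ fun i => X i) = z from funext hψ]
    exact hz
  refine ⟨MvPowerSeries (Fin n) Λ, inferInstance, isRegularLocalRing_mvPowerSeries Λ n, ψ.toRingHom,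
    PSHom.surjective ψ (maximalIdeal A) hV fun t => ?_⟩
  obtain ⟨a, ha⟩ := hg (residue A t)
  refine ⟨a, ?_⟩
  rw [← residue_eq_zero_iff, map_sub, sub_eq_zero]
  exact ha.symm

end Groth.Agent.Cohen
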