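import Groth.Agent.Lib.PBasis.Field
import Mathlib

/-! # p-bases of fields: generation and independence at every level -/

set_option autoImplicit false
universe u

namespace Groth.Agent.Cohen

open EGA41

variable {K : Type u} [Field K] (p : ℕ) [hp : Fact p.Prime] [CharP K p]

theorem exists_pBase : ∃ B : Set K,
    (∀ x : K, x ∈ Algebra.adjoin ((frobenius K p).fieldRange : Subfield K) B) ∧
    LinearIndependent ((frobenius K p).fieldRange : Subfield K)
      (fun e : {e : B →₀ ℕ // ∀ i, e i < p} => pMonomial (Subtype.val : B → K) e.1) := by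
  set L : Subfield K := (frobenius K p).fieldRange
  have hL : ∀ x : K, x ^ p ∈ L := fun x => ⟨x, rfl⟩
  let v : K → Ω[K⁄L] := KaehlerDifferential.D L K
  have h0 : LinearIndepOn K v (∅ : Set K) := linearIndepOn_empty K v
  let B := h0.extend (Set.subset_univ _)
  refine ⟨B, fun x => ?_, ?_⟩
  · have h1 : Submodule.span K (v '' B) = ⊤ := by
      refine eq_top_iff.mpr ?_
      rw [← KaehlerDifferential.span_range_derivation, Submodule.span_le, ← Set.image_univ]
      exact h0.image_subset_span_image_extend (Set.subset_univ _)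
    have h2 := (PBasis.span_D_eq_top_iff p L hL B).mp h1
    exact (PBasis.adjS_eq_adjoin p L hL B x).mp (h2 ▸ Subfield.mem_top x)
  · refine (PBasis.linearIndependent_pMonomial_iff p L hL _).mpr ?_
    exact (PBasis.linearIndependent_D_iff p L hL _).mp (h0.linearIndepOn_extend (Set.subset_univ _))

theorem pow_gen (B : Set K)
    (hB : ∀ x : K, x ∈ Algebra.adjoin ((frobenius K p).fieldRange : Subfield K) B) :
    ∀ (e : ℕ) (x : K), x ∈ Subring.closure (Set.range (fun y : K => y ^ p ^ e) ∪ B) := by
  intro e
  induction e with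
  | zero =>
    intro x
    exact Subring.subset_closure (Or.inl ⟨x, by simp⟩)
  | succ e ih =>
    intro x
    let R := Subring.closure (Set.range (fun y : K => y ^ p ^ (e + 1)) ∪ B)
    have hp' : ∀ w : K, w ^ p ∈ R := by
      intro w
      refine Subring.closure_induction (p := fun z _ => z ^ p ∈ R) ?_ ?_ ?_ ?_ ?_ ?_ (ih w)
      · rintro z (⟨y, rfl⟩ | hz)
        · refine Subring.subset_closure (Or.inl ⟨y, ?_⟩)
          simp only [← pow_mul, ← pow_succ]
        · show z ^ p ∈ R
          exact pow_mem (show z ∈ R from Subring.subset_closure (Or.inr hz)) p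
      · simp [zero_pow hp.out.ne_zero]
      · simp
      · intro a b _ _ ha hb
        rw [add_pow_char]
        exact add_mem ha hb
      · intro a _ ha
        rw [neg_pow]
        exact R.mul_mem (pow_mem (show (-1 : K) ∈ R from R.neg_mem R.one_mem) p) ha
      · intro a b _ _ ha hb
        rw [mul_pow]
        exact mul_mem ha hb
    induction hB x using Algebra.adjoin_induction with
    | mem z hz => exact Subring.subset_closure (Or.inr hz)
    | algebraMap r =>
      obtain ⟨y, hy⟩ := r.2
      show (r : K) ∈ R
      rw [← hy]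
      exact hp' y
    | add u v _ _ hu hv => exact add_mem hu hv
    | mul u v _ _ hu hv => exact mul_mem hu hv

theorem pow_indep (B : Set K)
    (hB : LinearIndependent ((frobenius K p).fieldRange : Subfield K)
      (fun e : {e : B →₀ ℕ // ∀ i, e i < p} => pMonomial (Subtype.val : B → K) e.1)) :
    ∀ (e : ℕ) (T : Finset (B →₀ ℕ)), (∀ r ∈ T, ∀ i, r i < p ^ e) → ∀ g : (B →₀ ℕ) → K,
      ∑ r ∈ T, g r ^ p ^ e * pMonomial (Subtype.val : B → K) r = 0 → ∀ r ∈ T, g r = 0 := by
  classical
  intro e
  induction e with
  | zero =>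
    intro T hT g hg r hr
    have hr0 : ∀ s ∈ T, s = 0 := fun s hs => Finsupp.ext fun i => by
      have := hT s hs i
      simpa using this
    rw [Finset.sum_eq_single r (fun s hs hne => absurd ((hr0 s hs).trans (hr0 r hr).symm) hne)
      (fun h => absurd hr h), hr0 r hr] at hg
    simpa [pMonomial, hr0 r hr] using hg
  | succ e ih =>
    intro T hT g hg r hr
    let lo : (B →₀ ℕ) → (B →₀ ℕ) := fun s => s.mapRange (fun n => n % p) (by simp)
    let hi : (B →₀ ℕ) → (B →₀ ℕ) := fun s => s.mapRange (fun n => n / p) (by simp)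
    have hsplit : ∀ s, pMonomial (Subtype.val : B → K) s =
        pMonomial (Subtype.val : B → K) (lo s) * (pMonomial (Subtype.val : B → K) (hi s)) ^ p := by
      intro s
      have hs : s = lo s + (hi s + (p - 1) • hi s) := Finsupp.ext fun i => by
        show s i = (lo s) i + ((hi s) i + (p - 1) * (hi s) i)
        have e1 : (lo s) i = s i % p := Finsupp.mapRange_apply (hf := by simp) ..
        have e2 : (hi s) i = s i / p := Finsupp.mapRange_apply (hf := by simp) ..
        have h2 : s i / p + (p - 1) * (s i / p) = p * (s i / p) := by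
          rw [add_comm, ← Nat.succ_mul, Nat.succ_eq_add_one, Nat.sub_add_cancel hp.out.one_le]
        rw [e1, e2, h2, Nat.mod_add_div]
      have hmul : ∀ (a : B →₀ ℕ) (n : ℕ), pMonomial (Subtype.val : B → K) (n • a) =
          pMonomial (Subtype.val : B → K) a ^ n := by
        intro a n
        induction n with
        | zero => simp [pMonomial]
        | succ n ihn => rw [succ_nsmul, PBasis.pMonomial_add, ihn, pow_succ]
      conv_lhs => rw [hs]
      rw [PBasis.pMonomial_add, PBasis.pMonomial_add, hmul, mul_comm (pMonomial _ (hi s)), ← pow_succ,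
        Nat.sub_add_cancel hp.out.one_le]
    let G : (B →₀ ℕ) → K := fun a =>
      ∑ s ∈ T.filter (fun s => lo s = a), g s ^ p ^ e * pMonomial (Subtype.val : B → K) (hi s)
    have hG : ∑ a ∈ T.image lo, G a ^ p * pMonomial (Subtype.val : B → K) a = 0 := by
      rw [← hg, ← Finset.sum_fiberwise_of_maps_to (g := lo) (t := T.image lo)
        (fun s hs => Finset.mem_image_of_mem lo hs)]
      refine Finset.sum_congr rfl fun a _ => ?_
      simp only [G, sum_pow_char, Finset.sum_mul]
      refine Finset.sum_congr rfl fun s hs => ?_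
      rw [← (Finset.mem_filter.mp hs).2, hsplit s, mul_pow, ← pow_mul, ← pow_succ]
      ring
    have hG0 : ∀ a ∈ T.image lo, G a = 0 := by
      intro a ha
      let F : {e : B →₀ ℕ // ∀ i, e i < p} → ((frobenius K p).fieldRange : Subfield K) :=
        fun s => ⟨G s.1 ^ p, G s.1, rfl⟩
      have hlt : ∀ b ∈ T.image lo, ∀ i, b i < p := by
        intro b hb i
        obtain ⟨s, _, rfl⟩ := Finset.mem_image.mp hb
        simp only [lo, Finsupp.mapRange_apply]
        exact Nat.mod_lt _ hp.out.pos
      have h := linearIndependent_iff'.mp hB ((T.image lo).attach.image fun b => ⟨b.1, hlt b.1 b.2⟩) F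
        (by
          rw [Finset.sum_image (fun b _ c _ h => Subtype.ext (Subtype.mk.injEq _ _ _ _ ▸ h))]
          refine Eq.trans ?_ hG
          rw [← Finset.sum_attach (T.image lo)]
          rfl) ⟨a, hlt a ha⟩ (Finset.mem_image.mpr ⟨⟨a, ha⟩, Finset.mem_attach _ _, rfl⟩)
      exact eq_zero_of_pow_eq_zero (congrArg Subtype.val h)
    let Tr := T.filter (fun s => lo s = lo r)
    have hinj : Set.InjOn hi (Tr : Set (B →₀ ℕ)) := by
      intro s hs t ht hst
      have e1 : lo s = lo t := (Finset.mem_filter.mp hs).2.trans (Finset.mem_filter.mp ht).2.symm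
      ext i
      have a1 := congrArg (fun f : B →₀ ℕ => f i) e1
      have a2 := congrArg (fun f : B →₀ ℕ => f i) hst
      have a1' : s i % p = t i % p := ((Finsupp.mapRange_apply (hf := by simp) ..).symm.trans a1).trans
        (Finsupp.mapRange_apply (hf := by simp) ..)
      have a2' : s i / p = t i / p := ((Finsupp.mapRange_apply (hf := by simp) ..).symm.trans a2).trans
        (Finsupp.mapRange_apply (hf := by simp) ..)
      rw [← Nat.mod_add_div (s i) p, ← Nat.mod_add_div (t i) p, a1', a2']
    let g' : (B →₀ ℕ) → K := fun c => g (Function.invFunOn hi (Tr : Set (B →₀ ℕ)) c)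
    have hg' : ∀ s ∈ Tr, g' (hi s) = g s := fun s hs => by
      simp only [g', hinj.leftInvOn_invFunOn hs]
    have key := ih (Tr.image hi) (fun c hc i => by
        obtain ⟨s, hs, rfl⟩ := Finset.mem_image.mp hc
        simp only [hi, Finsupp.mapRange_apply]
        rw [Nat.div_lt_iff_lt_mul hp.out.pos, ← pow_succ]
        exact hT s (Finset.mem_filter.mp hs).1 i) g' (by
        rw [Finset.sum_image hinj]
        refine Eq.trans (Finset.sum_congr rfl fun s hs => ?_) (hG0 (lo r) (Finset.mem_image_of_mem lo hr))
        rw [hg' s hs]) (hi r) (Finset.mem_image_of_mem hi (Finset.mem_filter.mpr ⟨hr, rfl⟩))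
    rwa [hg' r (Finset.mem_filter.mpr ⟨hr, rfl⟩)] at key

end Groth.Agent.Cohen
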