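import Groth.Agent.Lib.Cohen.Lift

/-! # Lifting local maps from Cohen rings -/

set_option autoImplicit false
universe u

namespace Groth.Agent.Cohen

open IsLocalRing

theorem isAdicComplete_cohen {W : Type u} [CommRing W] [IsLocalRing W] (hW : EGA41.IsCohenRingEGA W) :
    IsAdicComplete (maximalIdeal W) W := by
  rcases hW with ⟨hF, -⟩ | ⟨hdom, hdvr, hcpl, -⟩
  · rw [isField_iff_maximalIdeal_eq.mp hF]
    infer_instance
  · exact hcpl

/-- A local map from a Cohen ring to a quotient of a complete Noetherian local ring lifts. -/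
theorem exists_lift_quotient {W C : Type u} [CommRing W] [IsLocalRing W] (hW : EGA41.IsCohenRingEGA W)
    [CommRing C] [IsLocalRing C] [IsNoetherianRing C] [IsAdicComplete (maximalIdeal C) C]
    (J : Ideal C) (hJ : J ≠ ⊤) (u : W →+* C ⧸ J) [IsLocalHom u] :
    ∃ v : W →+* C, IsLocalHom v ∧ (Ideal.Quotient.mk J).comp v = u := by
  haveI := isAdicComplete_cohen hW
  haveI : Nontrivial (C ⧸ J) := Ideal.Quotient.nontrivial_iff.mpr hJ
  haveI : IsLocalRing (C ⧸ J) := IsLocalRing.of_surjective' _ Ideal.Quotient.mk_surjective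
  let Q : Subring (W × C) := RingHom.eqLocus (u.comp (RingHom.fst W C)) ((Ideal.Quotient.mk J).comp (RingHom.snd W C))
  let G := (Filt.ofAdic (maximalIdeal W)).prod (Filt.ofAdic (maximalIdeal C))
  haveI : IsLocalHom (Ideal.Quotient.mk J) := ⟨fun a ha => by
    obtain ⟨b, hb⟩ := ha.exists_right_inv
    obtain ⟨b, rfl⟩ := Ideal.Quotient.mk_surjective b
    rw [← map_mul, ← map_one (Ideal.Quotient.mk J), Ideal.Quotient.eq] at hb
    by_contra hcon
    refine (maximalIdeal.isMaximal C).ne_top ((Ideal.eq_top_iff_one _).mpr ?_)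
    rw [← sub_sub_self (a * b) 1]
    exact sub_mem (Ideal.mul_mem_right b _ (show a ∈ maximalIdeal C from hcon)) (le_maximalIdeal hJ hb)⟩
  have hm : ∀ n, (maximalIdeal C ^ n).map (Ideal.Quotient.mk J) ≤ maximalIdeal (C ⧸ J) ^ n := fun n => by
    rw [Ideal.map_pow]
    exact Ideal.pow_right_mono (show (maximalIdeal C).map (Ideal.Quotient.mk J) ≤ maximalIdeal (C ⧸ J) from
      Ideal.map_le_iff_le_comap.mpr fun a ha => map_nonunit (Ideal.Quotient.mk J) a ha) n
  have hu : ∀ n, (maximalIdeal W ^ n).map u ≤ maximalIdeal (C ⧸ J) ^ n := fun n => by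
    rw [Ideal.map_pow]
    exact Ideal.pow_right_mono (show (maximalIdeal W).map u ≤ maximalIdeal (C ⧸ J) from
      Ideal.map_le_iff_le_comap.mpr fun a ha => map_nonunit u a ha) n
  let H := G.restrict Q fun x hx => by
    refine sub_eq_zero.mp (eq_zero_of_mem_pow (maximalIdeal (C ⧸ J)) (maximalIdeal.isMaximal _).ne_top _ fun n => ?_)
    obtain ⟨y, hy, h1, h2⟩ := hx n
    have hy' : u y.1 = Ideal.Quotient.mk J y.2 := hy
    show u x.1 - Ideal.Quotient.mk J x.2 ∈ _
    rw [show u x.1 - Ideal.Quotient.mk J x.2 = u (x.1 - y.1) - Ideal.Quotient.mk J (x.2 - y.2) by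
      rw [map_sub, map_sub, hy']; ring]
    exact sub_mem (hu n (Ideal.mem_map_of_mem u h1)) (hm n (Ideal.mem_map_of_mem _ h2))
  let π : Q →+* ResidueField W := (residue W).comp ((RingHom.fst W C).comp Q.subtype)
  have hπ : Function.Surjective π := fun c => by
    obtain ⟨w, rfl⟩ := residue_surjective c
    obtain ⟨z, hz⟩ := Ideal.Quotient.mk_surjective (u w)
    exact ⟨⟨(w, z), hz.symm⟩, rfl⟩
  have hmem : ∀ x : Q, π x = 0 → x.1.1 ∈ maximalIdeal W ∧ x.1.2 ∈ maximalIdeal C := fun x hx => by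
    have h1 : x.1.1 ∈ maximalIdeal W := (residue_eq_zero_iff _).mp hx
    refine ⟨h1, fun hc => map_nonunit u _ h1 ?_⟩
    rw [show u x.1.1 = Ideal.Quotient.mk J x.1.2 from x.2]
    exact hc.map _
  have hker : H.I 1 = RingHom.ker π := by
    ext x
    refine ⟨fun h => (residue_eq_zero_iff _).mpr (by simpa using (show x.1.1 ∈ maximalIdeal W ^ 1 from h.1)), fun h => ?_⟩
    obtain ⟨h1, h2⟩ := hmem x h
    exact ⟨show x.1.1 ∈ maximalIdeal W ^ 1 by simpa using h1, show x.1.2 ∈ maximalIdeal C ^ 1 by simpa using h2⟩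
  obtain ⟨g, hg⟩ := exists_lift hW H π hπ hker
  let e₀ : W →+* W := ((RingHom.fst W C).comp Q.subtype).comp g
  have hb : Function.Bijective e₀ := bijective_of_isCohen hW hW e₀ (RingEquiv.refl _) fun w => hg w
  let e := RingEquiv.ofBijective e₀ hb
  let v : W →+* C := ((RingHom.snd W C).comp Q.subtype).comp (g.comp e.symm.toRingHom)
  have hv : (Ideal.Quotient.mk J).comp v = u := RingHom.ext fun w =>
    ((g (e.symm w)).2.symm).trans (congrArg u (e.apply_symm_apply w))
  refine ⟨v, ⟨fun a ha => ?_⟩, hv⟩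
  refine (isUnit_map_iff u a).mp ?_
  rw [← hv, RingHom.comp_apply]
  exact ha.map _

end Groth.Agent.Cohen
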