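import Groth.Agent.Lib.Cohen.Structure
import Groth.Agent.Lib.FlatDepth.SkOpen
import Groth.Agent.Lib.FlatDepth.FormalCM
import Groth.Agent.S2678

/-! # Openness of the Cohen-Macaulay locus -/

set_option autoImplicit false
universe u

namespace Groth.Agent.Cohen

open IsLocalRing FlatDepth

theorem cm_iff_supportDim_le (R : Type u) [CommRing R] [IsLocalRing R] [IsNoetherianRing R] :
    LocCoh.IsCohenMacaulayLocalRing R ↔ ringKrullDim R ≤ ((LocCoh.depth R R : ℕ∞) : WithBot ℕ∞) := by
  rw [← Module.supportDim_self_eq_ringKrullDim]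
  exact ⟨fun h => h.supportDim_eq_depth.le, fun h => ⟨le_antisymm h DepthLib.depth_le_supportDim⟩⟩

theorem isOpen_cmLocus_of_quotient_regular (R B : Type u) [CommRing R] [CommRing B] [IsRegularRing R]
    (f : R →+* B) (hf : Function.Surjective f) :
    IsOpen {q : PrimeSpectrum B | LocCoh.IsCohenMacaulayLocalRing (Localization.AtPrime q.asIdeal)} := by
  letI : Algebra R B := f.toAlgebra
  haveI : IsNoetherianRing B := isNoetherianRing_of_surjective R B f hf
  have h := Groth.Agent.S2678.result R B hf B 0
  convert h using 1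
  ext q
  simp only [Set.mem_setOf_eq, Nat.cast_zero, add_zero]
  rw [cm_iff_supportDim_le, (self_invariants q.asIdeal).1, (self_invariants q.asIdeal).2]

theorem cm_iff_of_flat {A B : Type u} [CommRing A] [CommRing B] [Algebra A B] [IsNoetherianRing A]
    [IsNoetherianRing B] [Module.Flat A B] (q : Ideal B) [q.IsPrime]
    (hf : ∀ k, SkIneq k (EGA4.FibLocRing A B q)) :
    LocCoh.IsCohenMacaulayLocalRing (Localization.AtPrime q) ↔
      LocCoh.IsCohenMacaulayLocalRing (Localization.AtPrime (q.comap (algebraMap A B))) := by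
  refine ⟨fun h => ?_, fun h => (forall_skIneq_iff _).1 fun k =>
    skIneq_of_fibre k q ((forall_skIneq_iff _).2 h k) (hf k)⟩
  obtain ⟨hd, hdim⟩ := ring_invariants (A := A) q
  obtain ⟨d, hd'⟩ := DepthLib.exists_supportDim_eq_natCast (R := Localization.AtPrime (q.comap (algebraMap A B)))
    (M := Localization.AtPrime (q.comap (algebraMap A B)))
  obtain ⟨e, he⟩ := DepthLib.exists_supportDim_eq_natCast (R := EGA4.FibLocRing A B q) (M := EGA4.FibLocRing A B q)
  obtain ⟨a, ha⟩ := DepthLib.exists_depth_eq_natCast (R := Localization.AtPrime (q.comap (algebraMap A B)))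
    (M := Localization.AtPrime (q.comap (algebraMap A B)))
  obtain ⟨b, hb⟩ := DepthLib.exists_depth_eq_natCast (R := EGA4.FibLocRing A B q) (M := EGA4.FibLocRing A B q)
  have h1 := (cm_iff_supportDim_le _).1 h
  have h2 : (b : WithBot ℕ∞) ≤ e := by
    have := DepthLib.depth_le_supportDim (R := EGA4.FibLocRing A B q) (M := EGA4.FibLocRing A B q)
    rwa [hb, he] at this
  rw [cm_iff_supportDim_le, ← Module.supportDim_self_eq_ringKrullDim, hd', ha]
  rw [hd, hdim, ← Module.supportDim_self_eq_ringKrullDim, ← Module.supportDim_self_eq_ringKrullDim, hd', he, ha, hb,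
    ← Nat.cast_add, ← Nat.cast_add] at h1
  norm_cast at h1 h2 ⊢
  omega

/-- The completion of a Noetherian local ring is a quotient of a regular local ring. -/
theorem exists_regular_surjection_cpl (A : Type u) [CommRing A] [IsLocalRing A] [IsNoetherianRing A] :
    ∃ (R : Type u) (_ : CommRing R) (_ : IsRegularLocalRing R) (f : R →+* EGA4.Cpl A), Function.Surjective f := by
  haveI := CplLocH7.isNoetherianRing_cpl A
  haveI : IsLocalRing (EGA4.Cpl A) := inferInstance
  haveI : IsAdicComplete (maximalIdeal (EGA4.Cpl A)) (EGA4.Cpl A) := inferInstance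
  exact exists_regular_surjection _

end Groth.Agent.Cohen
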