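import Mathlib

/-! # Complete separated multiplicative filtrations; Witt vectors -/

set_option autoImplicit false
universe u v

namespace Groth.Agent.Cohen

/-- A decreasing filtration by ideals, compatible with powers of the first, separated, complete. -/
structure Filt (P : Type u) [CommRing P] where
  I : ℕ → Ideal P
  zero : I 0 = ⊤
  anti : ∀ n, I (n + 1) ≤ I n
  mul : ∀ n, I 1 * I n ≤ I (n + 1)
  haus : ∀ x : P, (∀ n, x ∈ I n) → x = 0
  complete : ∀ f : ℕ → P, (∀ n, f (n + 1) - f n ∈ I n) → ∃ x, ∀ n, x - f n ∈ I n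

namespace Filt

variable {P : Type u} [CommRing P] (F : Filt P)

theorem antitone {m n : ℕ} (h : m ≤ n) : F.I n ≤ F.I m := by
  induction h with
  | refl => exact le_rfl
  | step _ ih => exact (F.anti _).trans ih

theorem mul_mem {n : ℕ} {x y : P} (hx : x ∈ F.I 1) (hy : y ∈ F.I n) : x * y ∈ F.I (n + 1) :=
  F.mul n (Ideal.mul_mem_mul hx hy)

theorem pow_mul_mem {n : ℕ} {x y : P} (hx : x ∈ F.I 1) (hy : y ∈ F.I n) (i : ℕ) :
    x ^ i * y ∈ F.I (n + i) := by
  induction i with
  | zero => simpa using hy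
  | succ i ih => rw [pow_succ', mul_assoc, ← add_assoc]; exact F.mul_mem hx ih

theorem pow_mem {x : P} (hx : x ∈ F.I 1) (i : ℕ) : x ^ i ∈ F.I i := by
  simpa using F.pow_mul_mem hx (n := 0) (y := 1) (by simp [F.zero]) i

/-- Lifting the exponent. -/
theorem pow_sub_pow_mem {p : ℕ} (hp : (p : P) ∈ F.I 1) {a b : P} (h : a - b ∈ F.I 1) (j : ℕ) :
    a ^ p ^ j - b ^ p ^ j ∈ F.I (j + 1) := by
  induction j with
  | zero => simpa using h
  | succ j ih =>
    have h1 : a ^ p ^ j - b ^ p ^ j ∈ F.I 1 := F.antitone (Nat.le_add_left 1 j) ih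
    have h2 : ∑ i ∈ Finset.range p, (a ^ p ^ j) ^ i * (b ^ p ^ j) ^ (p - 1 - i) ∈ F.I 1 := by
      rw [← Ideal.Quotient.eq_zero_iff_mem, map_sum]
      have hab : Ideal.Quotient.mk (F.I 1) (a ^ p ^ j) = Ideal.Quotient.mk (F.I 1) (b ^ p ^ j) :=
        Ideal.Quotient.eq.mpr h1
      simp only [map_mul, map_pow (Ideal.Quotient.mk (F.I 1)) (a ^ p ^ j), hab,
        map_pow (Ideal.Quotient.mk (F.I 1)) (b ^ p ^ j), ← pow_add]
      rw [Finset.sum_congr rfl fun i hi => by
        rw [show i + (p - 1 - i) = p - 1 from by have := Finset.mem_range.mp hi; omega],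
        Finset.sum_const, Finset.card_range, nsmul_eq_mul, ← map_natCast (Ideal.Quotient.mk (F.I 1)),
        Ideal.Quotient.eq_zero_iff_mem.mpr hp, zero_mul]
    rw [pow_succ p j, pow_mul, pow_mul, ← geom_sum₂_mul]
    exact F.mul_mem h2 ih

theorem isUnit_one_sub {x : P} (hx : x ∈ F.I 1) : IsUnit (1 - x) := by
  obtain ⟨y, hy⟩ := F.complete (fun n => ∑ i ∈ Finset.range n, x ^ i) fun n => by
    rw [Finset.sum_range_succ, add_sub_cancel_left]
    exact F.pow_mem hx n
  refine IsUnit.of_mul_eq_one y (sub_eq_zero.mp (F.haus _ fun n => ?_))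
  have h1 : (1 - x) * (∑ i ∈ Finset.range n, x ^ i) = 1 - x ^ n := by
    rw [mul_comm]; exact geom_sum_mul_neg x n
  have h2 : (1 - x) * y - 1 = (1 - x) * (y - ∑ i ∈ Finset.range n, x ^ i) - x ^ n := by
    linear_combination h1
  rw [h2]
  exact sub_mem (Ideal.mul_mem_left _ _ (hy n)) (F.pow_mem hx n)

/-- Restriction to a closed subring. -/
def restrict (Q : Subring P) (hQ : ∀ x : P, (∀ n, ∃ y ∈ Q, x - y ∈ F.I n) → x ∈ Q) : Filt Q where
  I n := (F.I n).comap Q.subtype
  zero := by rw [F.zero, Ideal.comap_top]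
  anti n := Ideal.comap_mono (F.anti n)
  mul n := Ideal.mul_le.mpr fun x hx y hy => F.mul_mem hx hy
  haus x hx := Subtype.ext (F.haus _ hx)
  complete f hf := by
    obtain ⟨x, hx⟩ := F.complete (fun n => (f n : P)) hf
    exact ⟨⟨x, hQ x fun n => ⟨f n, (f n).2, hx n⟩⟩, hx⟩

/-- Product. -/
def prod {R : Type v} [CommRing R] (G : Filt R) : Filt (P × R) where
  I n := (F.I n).comap (RingHom.fst P R) ⊓ (G.I n).comap (RingHom.snd P R)
  zero := by rw [F.zero, G.zero, Ideal.comap_top, Ideal.comap_top, inf_top_eq]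
  anti n := inf_le_inf (Ideal.comap_mono (F.anti n)) (Ideal.comap_mono (G.anti n))
  mul n := Ideal.mul_le.mpr fun x hx y hy => ⟨F.mul_mem hx.1 hy.1, G.mul_mem hx.2 hy.2⟩
  haus x hx := Prod.ext (F.haus _ fun n => (hx n).1) (G.haus _ fun n => (hx n).2)
  complete f hf := by
    obtain ⟨x, hx⟩ := F.complete (fun n => (f n).1) fun n => (hf n).1
    obtain ⟨y, hy⟩ := G.complete (fun n => (f n).2) fun n => (hf n).2
    exact ⟨(x, y), fun n => ⟨hx n, hy n⟩⟩

/-- The adic filtration of a complete ring. -/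
noncomputable def ofAdic (J : Ideal P) [IsAdicComplete J P] : Filt P where
  I n := J ^ n
  zero := by rw [pow_zero, Ideal.one_eq_top]
  anti n := Ideal.pow_le_pow_right (Nat.le_succ n)
  mul n := by rw [pow_one, ← pow_succ']
  haus x hx := IsHausdorff.haus (inferInstance : IsHausdorff J P) x fun n => by
    rw [SModEq.zero, smul_eq_mul, Ideal.mul_top]; exact hx n
  complete f hf := by
    have hmono : ∀ n d, f (n + d) - f n ∈ J ^ n := fun n d => by
      induction d with
      | zero => simp
      | succ d ih =>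
        rw [show f (n + (d + 1)) - f n = (f (n + d + 1) - f (n + d)) + (f (n + d) - f n) by ring_nf]
        exact add_mem (Ideal.pow_le_pow_right (Nat.le_add_right n d) (hf (n + d))) ih
    obtain ⟨L, hL⟩ := IsPrecomplete.prec (inferInstance : IsPrecomplete J P) (f := f) fun {m n} hmn => by
      rw [SModEq.sub_mem, smul_eq_mul, Ideal.mul_top, ← neg_mem_iff, neg_sub]
      obtain ⟨d, rfl⟩ := Nat.exists_eq_add_of_le hmn
      exact hmono m d
    refine ⟨L, fun n => ?_⟩
    have := hL n
    rw [SModEq.sub_mem, smul_eq_mul, Ideal.mul_top] at this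
    rw [← neg_mem_iff, neg_sub]
    exact this

end Filt

section Witt

variable (p : ℕ) [Fact p.Prime] (k : Type u) [CommRing k] [CharP k p]

open WittVector

theorem mem_wittI {n : ℕ} {x : WittVector p k} :
    x ∈ RingHom.ker (truncate (p := p) (R := k) n) ↔ ∀ i < n, x.coeff i = 0 := mem_ker_truncate n x

/-- The Verschiebung filtration on `W(k)`. -/
noncomputable def wittFilt : Filt (WittVector p k) where
  I n := RingHom.ker (truncate (p := p) (R := k) n)
  zero := eq_top_iff.mpr fun x _ => (mem_wittI p k).mpr fun i hi => absurd hi (Nat.not_lt_zero i)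
  anti n x hx := (mem_wittI p k).mpr fun i hi => (mem_wittI p k).mp hx i (Nat.lt_succ_of_lt hi)
  mul n := Ideal.mul_le.mpr fun x hx y hy => (mem_wittI p k).mpr fun i hi => by
    rw [eq_iterate_verschiebung ((mem_wittI p k).mp hx), eq_iterate_verschiebung ((mem_wittI p k).mp hy),
      iterate_verschiebung_mul]
    exact iterate_verschiebung_coeff_eq_zero _ (by omega)
  haus x hx := WittVector.ext fun i => by
    rw [zero_coeff]
    exact (mem_wittI p k).mp (hx (i + 1)) i (Nat.lt_succ_self i)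
  complete f hf := by
    have hst : ∀ n i, i < n → (f (n + 1)).coeff i = (f n).coeff i := fun n i hi => by
      have h := hf n
      rw [RingHom.mem_ker, map_sub, sub_eq_zero] at h
      simpa [coeff_truncate] using congrArg (TruncatedWittVector.coeff ⟨i, hi⟩) h
    refine ⟨mk p fun i => (f (i + 1)).coeff i, fun n => ?_⟩
    rw [RingHom.mem_ker, map_sub, sub_eq_zero]
    refine TruncatedWittVector.ext fun i => ?_
    rw [coeff_truncate, coeff_truncate, coeff_mk]
    obtain ⟨i, hi⟩ := i
    show (f (i + 1)).coeff i = (f n).coeff i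
    obtain ⟨d, rfl⟩ := Nat.exists_eq_add_of_le (Nat.succ_le_of_lt hi)
    clear hi
    induction d with
    | zero => rfl
    | succ d ih => rw [ih, show i.succ + (d + 1) = (i.succ + d) + 1 from rfl, hst (i.succ + d) i (by omega)]

end Witt

end Groth.Agent.Cohen
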