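import Mathlib
import Groth.Agent.Lib.Cohen.Filt
import Groth.Agent.Lib.Cohen.PBase

/-! # The coefficient subring of a complete filtered ring with residue field of char `p` -/

set_option autoImplicit false
universe u

namespace Groth.Agent.Cohen

open EGA41

/-- Expansion of a `p^n`-th power of a sum, with the error terms in any subring containing the summands. -/
theorem exists_add_pow_expansion {P : Type u} [CommRing P] (p : ℕ) [Fact p.Prime] (R : Subring P) {a b : P}
    (ha : a ∈ R) (hb : b ∈ R) (n : ℕ) : ∃ c : ℕ → P, (∀ l, c l ∈ R) ∧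
      (a + b) ^ p ^ n + ∑ l ∈ Finset.range n, (p : P) ^ (l + 1) * c l ^ p ^ (n - (l + 1)) =
        a ^ p ^ n + b ^ p ^ n := by
  let x : WittVector p R := WittVector.teichmuller p ⟨a, ha⟩ + WittVector.teichmuller p ⟨b, hb⟩
  refine ⟨fun l => (x.coeff (l + 1) : P), fun l => (x.coeff (l + 1)).2, ?_⟩
  have h : WittVector.ghostComponent n x = (⟨a, ha⟩ : R) ^ p ^ n + (⟨b, hb⟩ : R) ^ p ^ n := by
    rw [map_add, WittVector.ghostComponent_teichmuller, WittVector.ghostComponent_teichmuller]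
  rw [WittVector.ghostComponent_apply, wittPolynomial_eq_sum_C_mul_X_pow, map_sum] at h
  simp only [map_mul, MvPolynomial.aeval_C, map_pow, MvPolynomial.aeval_X, map_natCast] at h
  have h' := congrArg Subtype.val h
  push_cast at h'
  rw [Finset.sum_range_succ'] at h'
  simp only [Nat.sub_zero, pow_zero, one_mul] at h'
  rw [← h', add_comm]
  congr 1
  have : (x.coeff 0 : P) = a + b := by
    simp [x, WittVector.add_coeff_zero, WittVector.teichmuller_coeff_zero]
  rw [this]

section core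

variable {p : ℕ} [hp : Fact p.Prime] {k : Type u} [Field k] [CharP k p] {P : Type u} [CommRing P]
  (F : Filt P) (π : P →+* k) {B : Set k} (bt : B → P)

/-- Generators at level `e`. -/
def gens (p : ℕ) (F : Filt P) {B : Set k} (bt : B → P) (e : ℕ) : Set P :=
  {x | ∃ i a, i ≤ e ∧ x = (p : P) ^ i * a ^ p ^ (e - i)} ∪ Set.range bt ∪ (F.I (e + 1) : Set P)

/-- The `e`-th approximation of the coefficient ring. -/
def S (p : ℕ) (F : Filt P) {B : Set k} (bt : B → P) (e : ℕ) : Subring P := Subring.closure (gens p F bt e)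

variable {F π bt}

theorem I_le_S (e : ℕ) {x : P} (hx : x ∈ F.I (e + 1)) : x ∈ S p F bt e :=
  Subring.subset_closure (Or.inr hx)

theorem term_mem_S {e i : ℕ} (hi : i ≤ e) (a : P) : (p : P) ^ i * a ^ p ^ (e - i) ∈ S p F bt e :=
  Subring.subset_closure (Or.inl (Or.inl ⟨i, a, hi, rfl⟩))

theorem bt_mem_S (e : ℕ) (b : B) : bt b ∈ S p F bt e :=
  Subring.subset_closure (Or.inl (Or.inr ⟨b, rfl⟩))

theorem S_zero (x : P) : x ∈ S p F bt 0 := by
  simpa using term_mem_S (p := p) (F := F) (bt := bt) (e := 0) le_rfl x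

theorem mem_ker_iff (hker : F.I 1 = RingHom.ker π) {x : P} : x ∈ F.I 1 ↔ π x = 0 := by
  rw [hker, RingHom.mem_ker]

theorem p_mem (hker : F.I 1 = RingHom.ker π) : (p : P) ∈ F.I 1 := by
  rw [mem_ker_iff hker, map_natCast, CharP.cast_eq_zero]

theorem S_anti (hker : F.I 1 = RingHom.ker π) (e : ℕ) : S p F bt (e + 1) ≤ S p F bt e := by
  refine Subring.closure_le.mpr ?_
  rintro x ((⟨i, a, hi, rfl⟩ | ⟨b, rfl⟩) | hx)
  · rcases Nat.lt_or_ge e i with h | h
    · obtain rfl : i = e + 1 := by omega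
      exact I_le_S e (Ideal.mul_mem_right _ _ (F.pow_mem (p_mem hker) _))
    · rw [show e + 1 - i = e - i + 1 by omega, pow_succ', pow_mul]
      exact term_mem_S h (a ^ p)
  · exact bt_mem_S e b
  · exact I_le_S e (F.anti _ hx)

theorem S_antitone (hker : F.I 1 = RingHom.ker π) {m n : ℕ} (h : m ≤ n) : S p F bt n ≤ S p F bt m := by
  induction h with
  | refl => exact le_rfl
  | step _ ih => exact (S_anti hker _).trans ih

theorem exists_R1 (hπ : Function.Surjective π) (hbt : ∀ b : B, π (bt b) = b)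
    (hgen : ∀ (e : ℕ) (x : k), x ∈ Subring.closure (Set.range (fun y : k => y ^ p ^ e) ∪ B)) (e : ℕ) (a : P) :
    ∃ r ∈ Subring.closure (Set.range (fun y : P => y ^ p ^ e) ∪ Set.range bt), π r = π a := by
  refine Subring.closure_le (t := (Subring.closure (Set.range (fun y : P => y ^ p ^ e) ∪ Set.range bt)).map π).mpr
    ?_ (hgen e (π a))
  rintro z (⟨y, rfl⟩ | hz)
  · obtain ⟨w, rfl⟩ := hπ y
    exact ⟨w ^ p ^ e, Subring.subset_closure (Or.inl ⟨w, rfl⟩), map_pow π w _⟩
  · exact ⟨bt ⟨z, hz⟩, Subring.subset_closure (Or.inr ⟨_, rfl⟩), hbt ⟨z, hz⟩⟩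

theorem pow_mem_of_mem_R1 (T : Subring P) {e : ℕ} (hterm : ∀ i y, i ≤ e → (p : P) ^ i * y ^ p ^ (e + 1 - i) ∈ T)
    (hb : ∀ b : B, bt b ∈ T) :
    ∀ (j i : ℕ), i + j = e → ∀ r ∈ Subring.closure (Set.range (fun y : P => y ^ p ^ 1) ∪ Set.range bt),
      (p : P) ^ i * r ^ p ^ j ∈ T := by
  intro j
  induction j using Nat.strong_induction_on with
  | _ j ih =>
    intro i hij r hr
    set R := Subring.closure (Set.range (fun y : P => y ^ p ^ 1) ∪ Set.range bt) with hR
    refine AddSubgroup.closure_induction (p := fun r hr => (p : P) ^ i * r ^ p ^ j ∈ T) ?_ ?_ ?_ ?_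
      (Subring.mem_closure_iff.mp hr)
    · intro x hx
      rw [SetLike.mem_coe, Submonoid.closure_union, Submonoid.mem_sup] at hx
      obtain ⟨u, hu, c, hc, rfl⟩ := hx
      have hu' : ∃ y, y ^ p ^ 1 = u := by
        refine Submonoid.closure_le (S := MonoidHom.mrange (powMonoidHom (p ^ 1) : P →* P)).mpr ?_ hu
        rintro _ ⟨y, rfl⟩
        exact ⟨y, rfl⟩
      obtain ⟨y, rfl⟩ := hu'
      rw [mul_pow, ← mul_assoc, ← pow_mul, ← pow_add, show 1 + j = e + 1 - i by omega]
      refine T.mul_mem (hterm i y (by omega)) (pow_mem ?_ _)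
      refine Submonoid.closure_le (S := T.toSubmonoid).mpr ?_ hc
      rintro _ ⟨b, rfl⟩
      exact hb b
    · simp [zero_pow (pow_ne_zero j hp.out.ne_zero)]
    · intro a b ha hb' iha ihb
      have hmem : ∀ {z : P}, z ∈ AddSubgroup.closure
          (Submonoid.closure (Set.range (fun y : P => y ^ p ^ 1) ∪ Set.range bt) : Set P) → z ∈ R :=
        fun h => Subring.mem_closure_iff.mpr h
      obtain ⟨c, hc, he⟩ := exists_add_pow_expansion p R (hmem ha) (hmem hb') j
      have hs : ∑ l ∈ Finset.range j, (p : P) ^ i * ((p : P) ^ (l + 1) * c l ^ p ^ (j - (l + 1))) ∈ T := by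
        refine sum_mem fun l hl => ?_
        have hl' := Finset.mem_range.mp hl
        rw [← mul_assoc, ← pow_add]
        exact ih (j - (l + 1)) (by omega) _ (by omega) (c l) (hc l)
      rw [← Finset.mul_sum] at hs
      have : (p : P) ^ i * (a + b) ^ p ^ j = (p : P) ^ i * a ^ p ^ j + (p : P) ^ i * b ^ p ^ j -
          (p : P) ^ i * ∑ l ∈ Finset.range j, (p : P) ^ (l + 1) * c l ^ p ^ (j - (l + 1)) := by
        linear_combination (p : P) ^ i * he
      rw [this]
      exact sub_mem (add_mem iha ihb) hs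
    · intro a _ iha
      rw [neg_pow, mul_left_comm]
      exact T.mul_mem (pow_mem (T.neg_mem T.one_mem) _) iha

theorem S_le_succ_add (hker : F.I 1 = RingHom.ker π) (hπ : Function.Surjective π) (hbt : ∀ b : B, π (bt b) = b)
    (hgen : ∀ (e : ℕ) (x : k), x ∈ Subring.closure (Set.range (fun y : k => y ^ p ^ e) ∪ B))
    (e : ℕ) {x : P} (hx : x ∈ S p F bt e) : ∃ x' ∈ S p F bt (e + 1), x' - x ∈ F.I (e + 1) := by
  set T : Subring P := ((S p F bt (e + 1)).map (Ideal.Quotient.mk (F.I (e + 1)))).comap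
    (Ideal.Quotient.mk (F.I (e + 1))) with hT
  have hsub : S p F bt (e + 1) ≤ T := fun y hy => ⟨y, hy, rfl⟩
  have key : S p F bt e ≤ T := by
    refine Subring.closure_le.mpr ?_
    rintro z ((⟨i, a, hi, rfl⟩ | ⟨b, rfl⟩) | hz)
    · obtain ⟨r, hr, hra⟩ := exists_R1 hπ hbt hgen 1 a
      have h1 : (p : P) ^ i * r ^ p ^ (e - i) ∈ T :=
        pow_mem_of_mem_R1 T (e := e) (fun l y hl => hsub (term_mem_S (by omega) y))
          (fun b => hsub (bt_mem_S _ b)) (e - i) i (by omega) r hr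
      have h2 : (p : P) ^ i * (a ^ p ^ (e - i) - r ^ p ^ (e - i)) ∈ F.I (e + 1) := by
        have := F.pow_mul_mem (p_mem hker) (F.pow_sub_pow_mem (p_mem hker)
          (show a - r ∈ F.I 1 by rw [mem_ker_iff hker, map_sub, hra, sub_self]) (e - i)) i
        rwa [show e - i + 1 + i = e + 1 by omega] at this
      have h3 : (p : P) ^ i * (a ^ p ^ (e - i) - r ^ p ^ (e - i)) ∈ T :=
        ⟨0, Subring.zero_mem _, by rw [map_zero, Ideal.Quotient.eq_zero_iff_mem.mpr h2]⟩
      have := add_mem h1 h3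
      rwa [← mul_add, add_sub_cancel] at this
    · exact hsub (bt_mem_S _ b)
    · exact ⟨0, Subring.zero_mem _, by rw [map_zero, Ideal.Quotient.eq_zero_iff_mem.mpr hz]⟩
  obtain ⟨x', hx', he⟩ := key hx
  exact ⟨x', hx', Ideal.Quotient.eq.mp he⟩

theorem exists_mem_S_of_residue (hπ : Function.Surjective π) (hbt : ∀ b : B, π (bt b) = b)
    (hgen : ∀ (e : ℕ) (x : k), x ∈ Subring.closure (Set.range (fun y : k => y ^ p ^ e) ∪ B))
    (e : ℕ) (c : k) : ∃ x ∈ S p F bt e, π x = c := by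
  obtain ⟨a, rfl⟩ := hπ c
  obtain ⟨r, hr, hra⟩ := exists_R1 hπ hbt hgen e a
  refine ⟨r, Subring.closure_le.mpr ?_ hr, hra⟩
  rintro _ (⟨y, rfl⟩ | ⟨b, rfl⟩)
  · simpa using term_mem_S (p := p) (F := F) (bt := bt) (Nat.zero_le e) y
  · exact bt_mem_S e b

theorem pMonomial_nsmul {R : Type u} [CommRing R] {ι : Type u} (x : ι → R) (a : ι →₀ ℕ) (n : ℕ) :
    pMonomial x (n • a) = pMonomial x a ^ n := by
  induction n with
  | zero => simp [pMonomial]
  | succ n ihn => rw [succ_nsmul, PBasis.pMonomial_add, ihn, pow_succ]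

theorem exists_pMonomial_eq {R : Type u} [CommRing R] {ι : Type u} {x : ι → R} {u : R}
    (hu : u ∈ Submonoid.closure (Set.range x)) : ∃ d : ι →₀ ℕ, u = pMonomial x d := by
  induction hu using Submonoid.closure_induction with
  | mem z hz => obtain ⟨i, rfl⟩ := hz; exact ⟨Finsupp.single i 1, by rw [PBasis.pMonomial_single, pow_one]⟩
  | one => exact ⟨0, (PBasis.pMonomial_zero x).symm⟩
  | mul a b _ _ ha hb =>
    obtain ⟨d, rfl⟩ := ha
    obtain ⟨d', rfl⟩ := hb
    exact ⟨d + d', (PBasis.pMonomial_add x d d').symm⟩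

/-- `p S_m + I(m+2)`. -/
def J (p : ℕ) (F : Filt P) {B : Set k} (bt : B → P) (m : ℕ) : AddSubgroup P where
  carrier := {x | ∃ y ∈ S p F bt m, x - (p : P) * y ∈ F.I (m + 2)}
  zero_mem' := ⟨0, Subring.zero_mem _, by simp⟩
  add_mem' := by
    rintro a b ⟨y, hy, h⟩ ⟨y', hy', h'⟩
    refine ⟨y + y', add_mem hy hy', ?_⟩
    rw [show a + b - (p : P) * (y + y') = (a - (p : P) * y) + (b - (p : P) * y') by ring]
    exact add_mem h h'
  neg_mem' := by
    rintro a ⟨y, hy, h⟩
    refine ⟨-y, neg_mem hy, ?_⟩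
    rw [show -a - (p : P) * -y = -(a - (p : P) * y) by ring]
    exact neg_mem h

theorem mul_mem_J {m : ℕ} {x z : P} (hx : x ∈ J p F bt m) (hz : z ∈ S p F bt m) : x * z ∈ J p F bt m := by
  obtain ⟨y, hy, h⟩ := hx
  refine ⟨y * z, mul_mem hy hz, ?_⟩
  rw [show x * z - (p : P) * (y * z) = (x - (p : P) * y) * z by ring]
  exact Ideal.mul_mem_right _ _ h

theorem pow_add_mem_J (hker : F.I 1 = RingHom.ker π) (m : ℕ) (a b c : P) (hc : π c = π (a + b)) :
    c ^ p ^ (m + 1) - (a ^ p ^ (m + 1) + b ^ p ^ (m + 1)) ∈ J p F bt m := by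
  obtain ⟨d, -, he⟩ := exists_add_pow_expansion p (⊤ : Subring P) (Subring.mem_top a) (Subring.mem_top b) (m + 1)
  refine ⟨-∑ l ∈ Finset.range (m + 1), (p : P) ^ l * d l ^ p ^ (m - l), neg_mem (sum_mem fun l hl =>
    term_mem_S (Nat.lt_succ_iff.mp (Finset.mem_range.mp hl)) (d l)), ?_⟩
  have h1 : c ^ p ^ (m + 1) - (a + b) ^ p ^ (m + 1) ∈ F.I (m + 2) :=
    F.pow_sub_pow_mem (p_mem hker) (by rw [mem_ker_iff hker, map_sub, hc, sub_self]) (m + 1)
  convert h1 using 1
  rw [← he, mul_neg, sub_neg_eq_add, Finset.mul_sum]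
  simp only [Nat.succ_sub_succ, pow_succ', mul_assoc]
  ring

theorem exists_kernel (hker : F.I 1 = RingHom.ker π) (hπ : Function.Surjective π) (hbt : ∀ b : B, π (bt b) = b)
    (hgen : ∀ (e : ℕ) (x : k), x ∈ Subring.closure (Set.range (fun y : k => y ^ p ^ e) ∪ B))
    (hind : ∀ (e : ℕ) (T : Finset (B →₀ ℕ)), (∀ r ∈ T, ∀ i, r i < p ^ e) → ∀ g : (B →₀ ℕ) → k,
      ∑ r ∈ T, g r ^ p ^ e * pMonomial (Subtype.val : B → k) r = 0 → ∀ r ∈ T, g r = 0)
    (e : ℕ) {x : P} (hx : x ∈ S p F bt e) (hx0 : π x = 0) : ∃ y ∈ S p F bt e, x - (p : P) * y ∈ F.I (e + 1) := by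
  classical
  rcases e with _ | m
  · exact ⟨0, Subring.zero_mem _, by simpa using (mem_ker_iff hker).mpr hx0⟩
  set q := p ^ (m + 1) with hq
  have hqpos : 0 < q := Nat.pow_pos hp.out.pos
  set C := Subring.closure (Set.range (fun y : P => y ^ q) ∪ Set.range bt) with hC
  have hC_S : C ≤ S p F bt m := by
    refine le_trans (Subring.closure_le.mpr ?_) (S_anti hker m)
    rintro _ (⟨y, rfl⟩ | ⟨b, rfl⟩)
    · simpa [hq] using term_mem_S (p := p) (F := F) (bt := bt) (Nat.zero_le (m + 1)) y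
    · exact bt_mem_S _ b
  have hdec : ∃ c ∈ C, x - c ∈ J p F bt m := by
    refine Subring.closure_induction (p := fun z _ => ∃ c ∈ C, z - c ∈ J p F bt m) ?_ ?_ ?_ ?_ ?_ ?_ hx
    · rintro z ((⟨i, a, hi, rfl⟩ | ⟨b, rfl⟩) | hz)
      · rcases i with _ | i
        · exact ⟨a ^ q, Subring.subset_closure (Or.inl ⟨a, rfl⟩), by simp [hq, zero_mem]⟩
        · refine ⟨0, Subring.zero_mem _, (p : P) ^ i * a ^ p ^ (m - i), term_mem_S (by omega) a, ?_⟩
          rw [Nat.succ_sub_succ, sub_zero, pow_succ', mul_assoc, sub_self]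
          exact zero_mem _
      · exact ⟨bt b, Subring.subset_closure (Or.inr ⟨b, rfl⟩), by simp [zero_mem]⟩
      · exact ⟨0, Subring.zero_mem _, 0, Subring.zero_mem _, by simpa using hz⟩
    · exact ⟨0, Subring.zero_mem _, by simp [zero_mem]⟩
    · exact ⟨1, Subring.one_mem _, by simp [zero_mem]⟩
    · rintro a b - - ⟨c, hc, h⟩ ⟨d, hd, h'⟩
      exact ⟨c + d, add_mem hc hd, by rw [add_sub_add_comm]; exact add_mem h h'⟩
    · rintro a - ⟨c, hc, h⟩
      exact ⟨-c, neg_mem hc, by rw [show -a - -c = -(a - c) by ring]; exact neg_mem h⟩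
    · rintro a b - hb ⟨c, hc, h⟩ ⟨d, hd, h'⟩
      refine ⟨c * d, mul_mem hc hd, ?_⟩
      rw [show a * b - c * d = (a - c) * b + (b - d) * c by ring]
      exact add_mem (mul_mem_J h (S_anti hker m hb)) (mul_mem_J h' (hC_S hc))
  obtain ⟨c, hcC, hxc⟩ := hdec
  have hJ0 : ∀ z ∈ J p F bt m, π z = 0 := by
    rintro z ⟨y, -, h⟩
    have := (mem_ker_iff hker).mp (F.antitone (show 1 ≤ m + 2 by omega) h)
    simpa [map_sub, map_mul, CharP.cast_eq_zero] using this
  have hc0 : π c = 0 := by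
    have := hJ0 _ hxc
    rwa [map_sub, hx0, zero_sub, neg_eq_zero] at this
  let σ : k → P := Function.surjInv hπ
  have hσ : ∀ a, π (σ a) = a := Function.surjInv_eq hπ
  have hmon : ∀ d : B →₀ ℕ, pMonomial bt d ∈ C := fun d => prod_mem fun b _ =>
    pow_mem (show bt b ∈ C from Subring.subset_closure (Or.inr ⟨b, rfl⟩)) _
  have hπmon : ∀ d : B →₀ ℕ, π (pMonomial bt d) = pMonomial (Subtype.val : B → k) d := fun d => by
    simp [pMonomial, map_finsuppProd, hbt]
  let Φ : ({d : B →₀ ℕ // ∀ i, d i < q} →₀ k) → P := fun g =>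
    g.sum fun r a => σ a ^ q * pMonomial bt r.1
  have hadd : ∀ (r : {d : B →₀ ℕ // ∀ i, d i < q}) a a',
      σ (a + a') ^ q * pMonomial bt r.1 - (σ a ^ q * pMonomial bt r.1 + σ a' ^ q * pMonomial bt r.1) ∈
        J p F bt m := fun r a a' => by
    rw [← add_mul, ← sub_mul]
    exact mul_mem_J (pow_add_mem_J hker m _ _ _ (by rw [map_add, hσ, hσ, hσ])) (hC_S (hmon r.1))
  let h : {d : B →₀ ℕ // ∀ i, d i < q} → k →+ P ⧸ J p F bt m := fun r =>
    AddMonoidHom.mk' (fun a => QuotientAddGroup.mk (σ a ^ q * pMonomial bt r.1)) fun a a' => by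
      rw [← QuotientAddGroup.mk_add, QuotientAddGroup.eq, ← neg_mem_iff]
      simpa [sub_eq_add_neg, add_comm, add_left_comm] using hadd r a a'
  let L := Finsupp.liftAddHom h
  have hrange : (QuotientAddGroup.mk c : P ⧸ J p F bt m) ∈ L.range := by
    refine AddSubgroup.closure_induction (p := fun z _ => (QuotientAddGroup.mk z : P ⧸ J p F bt m) ∈ L.range)
      ?_ ?_ ?_ ?_ (Subring.mem_closure_iff.mp hcC)
    · intro z hz
      rw [SetLike.mem_coe, Submonoid.closure_union, Submonoid.mem_sup] at hz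
      obtain ⟨u, hu, w, hw, rfl⟩ := hz
      obtain ⟨y, rfl⟩ : ∃ y, y ^ q = u := by
        refine Submonoid.closure_le (S := MonoidHom.mrange (powMonoidHom q : P →* P)).mpr ?_ hu
        rintro _ ⟨y, rfl⟩
        exact ⟨y, rfl⟩
      obtain ⟨d, rfl⟩ := exists_pMonomial_eq hw
      let lo : B →₀ ℕ := d.mapRange (fun n => n % q) (Nat.zero_mod q)
      let hi : B →₀ ℕ := d.mapRange (fun n => n / q) (Nat.zero_div q)
      have hd : d = lo + q • hi := Finsupp.ext fun i => by
        show d i = lo i + q * hi i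
        have e1 : lo i = d i % q := Finsupp.mapRange_apply (hf := Nat.zero_mod q) ..
        have e2 : hi i = d i / q := Finsupp.mapRange_apply (hf := Nat.zero_div q) ..
        rw [e1, e2, Nat.mod_add_div]
      have hlo : ∀ i, lo i < q := fun i => by
        have e1 : lo i = d i % q := Finsupp.mapRange_apply (hf := Nat.zero_mod q) ..
        rw [e1]; exact Nat.mod_lt _ hqpos
      refine ⟨Finsupp.single ⟨lo, hlo⟩ (π (y * pMonomial bt hi)), ?_⟩
      rw [Finsupp.liftAddHom_apply_single]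
      refine (QuotientAddGroup.eq.mpr ?_)
      rw [← neg_mem_iff]
      have e3 : y ^ q * pMonomial bt d = (y * pMonomial bt hi) ^ q * pMonomial bt lo := by
        rw [hd, PBasis.pMonomial_add, pMonomial_nsmul, mul_pow]; ring
      rw [e3, neg_add_rev, neg_neg, add_comm, ← sub_eq_add_neg, ← sub_mul]
      refine mul_mem_J ⟨0, Subring.zero_mem _, ?_⟩ (hC_S (hmon lo))
      rw [mul_zero, sub_zero]
      exact F.pow_sub_pow_mem (p_mem hker) (by rw [mem_ker_iff hker, map_sub, hσ, sub_self]) (m + 1)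
    · exact L.range.zero_mem
    · intro a b _ _ ha hb
      exact L.range.add_mem ha hb
    · intro a _ ha
      exact L.range.neg_mem ha
  obtain ⟨g, hg⟩ := hrange
  have hL : L g = QuotientAddGroup.mk (Φ g) := by
    rw [Finsupp.liftAddHom_apply]
    simp only [Φ, Finsupp.sum]
    exact (map_sum (QuotientAddGroup.mk' (J p F bt m)) _ _).symm
  have hcΦ : -Φ g + c ∈ J p F bt m := QuotientAddGroup.eq.mp (hL ▸ hg)
  have hg0 : g = 0 := by
    have h1 : π (Φ g) = 0 := by
      have := hJ0 _ hcΦ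
      simpa [map_add, hc0] using this
    ext r
    by_contra hr
    simp only [Φ, Finsupp.sum, map_sum, map_mul, map_pow, hσ, hπmon] at h1
    let g' : (B →₀ ℕ) → k := fun d => if hd : ∀ i, d i < q then g ⟨d, hd⟩ else 0
    have hg' : ∀ s, g' s.1 = g s := fun s => dif_pos s.2
    have := hind (m + 1) (g.support.map (Function.Embedding.subtype _))
      (fun d hd i => by obtain ⟨s, -, rfl⟩ := Finset.mem_map.mp hd; exact s.2 i) g' (by
        rw [Finset.sum_map]
        simpa only [Function.Embedding.subtype_apply, hg'] using h1) r.1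
      (Finset.mem_map.mpr ⟨r, Finsupp.mem_support_iff.mpr hr, rfl⟩)
    rw [hg'] at this
    exact hr this
  have hcJ : c ∈ J p F bt m := by
    subst hg0
    simpa [Φ] using hcΦ
  obtain ⟨y, hy, hyI⟩ := add_mem hxc hcJ
  rw [sub_add_cancel] at hyI
  obtain ⟨y', hy', hyy⟩ := S_le_succ_add hker hπ hbt hgen m hy
  refine ⟨y', hy', ?_⟩
  rw [show x - (p : P) * y' = (x - (p : P) * y) - (p : P) * (y' - y) by ring]
  exact sub_mem hyI (F.mul_mem (p_mem hker) hyy)

end core

end Groth.Agent.Cohen
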