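import Groth.Agent.Lib.Cohen.Core
import Groth.Prelude.Def_Found

/-! # Cohen rings inside complete filtered rings over `W(k)` -/

set_option autoImplicit false
universe u

namespace Groth.Agent.Cohen

theorem Filt.isAdicComplete {P : Type u} [CommRing P] (F : Filt P) (J : Ideal P) (h : ∀ n, F.I n = J ^ n) :
    IsAdicComplete J P where
  haus' x hx := F.haus x fun n => by
    have := hx n
    rw [SModEq.zero, smul_eq_mul, Ideal.mul_top] at this
    rw [h]; exact this
  prec' f hf := by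
    obtain ⟨x, hx⟩ := F.complete f fun n => by
      have := hf (Nat.le_succ n)
      rw [SModEq.sub_mem, smul_eq_mul, Ideal.mul_top] at this
      rw [h, ← neg_mem_iff, neg_sub]; exact this
    refine ⟨x, fun n => ?_⟩
    rw [SModEq.sub_mem, smul_eq_mul, Ideal.mul_top, ← h, ← neg_mem_iff, neg_sub]
    exact hx n

open WittVector in
theorem witt_of_mul_p {p : ℕ} [Fact p.Prime] {k : Type u} [CommRing k] [IsReduced k] [CharP k p] {n : ℕ}
    {x : WittVector p k} (h : x * p ∈ RingHom.ker (truncate (p := p) (R := k) (n + 1))) :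
    x ∈ RingHom.ker (truncate (p := p) (R := k) n) := by
  rw [mem_ker_truncate] at h ⊢
  intro i hi
  have := h (i + 1) (Nat.succ_lt_succ hi)
  rw [mul_charP_coeff_succ] at this
  exact eq_zero_of_pow_eq_zero this

open WittVector in
theorem coeff_zero_of_pow_mul {p : ℕ} [Fact p.Prime] {k : Type u} [CommRing k] [IsReduced k] [CharP k p] {n : ℕ}
    {x : WittVector p k} (h : x * (p : WittVector p k) ^ n ∈ RingHom.ker (truncate (p := p) (R := k) (n + 1))) :
    x.coeff 0 = 0 := by
  rw [mem_ker_truncate] at h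
  have := h (0 + n) (by omega)
  rw [mul_pow_charP_coeff_succ] at this
  exact eq_zero_of_pow_eq_zero this

section

variable {p : ℕ} [hp : Fact p.Prime] {k : Type u} [Field k] [CharP k p] {P : Type u} [CommRing P]
  {F : Filt P} {π : P →+* k} {B : Set k} {bt : B → P}
  (hker : F.I 1 = RingHom.ker π) (hπ : Function.Surjective π) (hbt : ∀ b : B, π (bt b) = b)
  (hgen : ∀ (e : ℕ) (x : k), x ∈ Subring.closure (Set.range (fun y : k => y ^ p ^ e) ∪ B))
  (hind : ∀ (e : ℕ) (T : Finset (B →₀ ℕ)), (∀ r ∈ T, ∀ i, r i < p ^ e) → ∀ g : (B →₀ ℕ) → k,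
      ∑ r ∈ T, g r ^ p ^ e * EGA41.pMonomial (Subtype.val : B → k) r = 0 → ∀ r ∈ T, g r = 0)

/-- The coefficient ring. -/
def coeffRing (p : ℕ) (F : Filt P) {B : Set k} (bt : B → P) : Subring P := ⨅ e, S p F bt e

include hker hπ hbt hgen in
theorem exists_approx (e : ℕ) {x : P} (hx : x ∈ S p F bt e) :
    ∃ z ∈ coeffRing p F bt, z - x ∈ F.I (e + 1) := by
  have step : ∀ (n : ℕ) (y : S p F bt (e + n)), ∃ y' : S p F bt (e + (n + 1)), (y' : P) - y ∈ F.I (e + n + 1) :=
    fun n y => by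
      obtain ⟨y', hy', h⟩ := S_le_succ_add hker hπ hbt hgen (e + n) y.2
      exact ⟨⟨y', hy'⟩, h⟩
  choose nxt hnxt using step
  let g : ∀ n, S p F bt (e + n) := fun n => Nat.rec ⟨x, hx⟩ nxt n
  have hg : ∀ n d, (g (n + d)).1 - (g n).1 ∈ F.I (e + n + 1) := by
    intro n d
    induction d with
    | zero => simp
    | succ d ih =>
      have h := F.antitone (show e + n + 1 ≤ e + (n + d) + 1 by omega) (hnxt (n + d) (g (n + d)))
      have h' := add_mem h ih
      rw [sub_add_sub_cancel] at h'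
      exact h'

  obtain ⟨z, hz⟩ := F.complete (fun n => (g n).1) fun n => F.antitone (by omega) (hg n 1)
  have hz' : ∀ n, z - (g n).1 ∈ F.I (e + n + 1) := fun n => by
    rw [show z - (g n).1 = (z - (g (n + (e + 1))).1) + ((g (n + (e + 1))).1 - (g n).1) by ring]
    exact add_mem (F.antitone (by omega) (hz (n + (e + 1)))) (hg n (e + 1))
  refine ⟨z, Subring.mem_iInf.mpr fun j => ?_, hz' 0⟩
  rw [← sub_add_cancel z (g j).1]
  exact add_mem (I_le_S j (F.antitone (by omega) (hz' j))) (S_antitone hker (Nat.le_add_left j e) (g j).2)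

theorem coeffRing_closed (x : P) (h : ∀ n, ∃ y ∈ coeffRing p F bt, x - y ∈ F.I n) : x ∈ coeffRing p F bt := by
  refine Subring.mem_iInf.mpr fun e => ?_
  obtain ⟨y, hy, h'⟩ := h (e + 1)
  rw [← sub_add_cancel x y]
  exact add_mem (I_le_S e h') (Subring.mem_iInf.mp hy e)

include hker hπ hbt hgen in
theorem exists_residue (c : k) : ∃ z ∈ coeffRing p F bt, π z = c := by
  obtain ⟨a, rfl⟩ := hπ c
  obtain ⟨z, hz, hza⟩ := exists_approx hker hπ hbt hgen 0 (S_zero a)
  refine ⟨z, hz, sub_eq_zero.mp ?_⟩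
  rw [← map_sub]
  exact (mem_ker_iff hker).mp hza

variable (ψ : P →+* WittVector p k) (hψ0 : ∀ x, (ψ x).coeff 0 = π x)
  (hψ : ∀ n x, x ∈ F.I n → ψ x ∈ RingHom.ker (WittVector.truncate (p := p) (R := k) n))

include hker hπ hbt hgen hind hψ0 hψ in
theorem exists_pow_approx {x : P} (hx : x ∈ coeffRing p F bt) :
    ∀ n, ψ x ∈ RingHom.ker (WittVector.truncate (p := p) (R := k) n) →
      ∀ e, ∃ y ∈ coeffRing p F bt, x - (p : P) ^ n * y ∈ F.I e := by
  intro n
  induction n with
  | zero => exact fun _ e => ⟨x, hx, by simp⟩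
  | succ n ih =>
    intro h e
    obtain ⟨y, hy, hxy⟩ := ih ((wittFilt p k).anti n h) (max e (n + 1))
    have h1 := hψ _ _ (F.antitone (le_max_right e (n + 1)) hxy)
    rw [map_sub, map_mul, map_pow, map_natCast] at h1
    have h2 : ψ y * (p : WittVector p k) ^ n ∈ RingHom.ker (WittVector.truncate (p := p) (R := k) (n + 1)) := by
      rw [show ψ y * (p : WittVector p k) ^ n = ψ x - (ψ x - (p : WittVector p k) ^ n * ψ y) by ring]
      exact sub_mem h h1
    have hy0 : π y = 0 := by rw [← hψ0]; exact coeff_zero_of_pow_mul h2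
    obtain ⟨y', hy', hyy⟩ := exists_kernel hker hπ hbt hgen hind e (Subring.mem_iInf.mp hy e) hy0
    obtain ⟨z, hz, hzy⟩ := exists_approx hker hπ hbt hgen e hy'
    refine ⟨z, hz, ?_⟩
    rw [show x - (p : P) ^ (n + 1) * z = (x - (p : P) ^ n * y) + (p : P) ^ n * ((y - (p : P) * y') - (p : P) * (z - y')) by ring]
    exact add_mem (F.antitone (le_max_left e (n + 1)) hxy) (Ideal.mul_mem_left _ _
      (F.antitone (Nat.le_succ e) (sub_mem hyy (Ideal.mul_mem_left _ _ hzy))))

include hker hπ hbt hgen hind hψ0 hψ in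
theorem mem_I_of_witt {x : P} (hx : x ∈ coeffRing p F bt) {n : ℕ}
    (h : ψ x ∈ RingHom.ker (WittVector.truncate (p := p) (R := k) n)) : x ∈ F.I n := by
  obtain ⟨y, -, hxy⟩ := exists_pow_approx hker hπ hbt hgen hind ψ hψ0 hψ hx n h n
  rw [← sub_add_cancel x ((p : P) ^ n * y)]
  exact add_mem hxy (Ideal.mul_mem_right _ _ (F.pow_mem (p_mem hker) n))

include hker hπ hbt hgen hind hψ0 hψ in
theorem exists_div_p {x : P} (hx : x ∈ coeffRing p F bt) (hx0 : π x = 0) :
    ∃ y ∈ coeffRing p F bt, x = (p : P) * y := by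
  have step : ∀ e, ∃ y ∈ coeffRing p F bt, x - (p : P) * y ∈ F.I (e + 1) := fun e => by
    obtain ⟨y', hy', hyy⟩ := exists_kernel hker hπ hbt hgen hind e (Subring.mem_iInf.mp hx e) hx0
    obtain ⟨z, hz, hzy⟩ := exists_approx hker hπ hbt hgen e hy'
    refine ⟨z, hz, ?_⟩
    rw [show x - (p : P) * z = (x - (p : P) * y') - (p : P) * (z - y') by ring]
    exact sub_mem hyy (Ideal.mul_mem_left _ _ hzy)
  choose y hy hxy using step
  obtain ⟨z, hz⟩ := F.complete y fun e => by
    refine mem_I_of_witt hker hπ hbt hgen hind ψ hψ0 hψ (sub_mem (hy (e + 1)) (hy e)) (witt_of_mul_p ?_)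
    have h1 := hψ _ _ (sub_mem (hxy e) (F.antitone (Nat.le_succ _) (hxy (e + 1))))
    convert h1 using 1
    simp only [map_sub, map_mul, map_natCast]
    ring
  refine ⟨z, coeffRing_closed z fun n => ⟨y n, hy n, hz n⟩, sub_eq_zero.mp (F.haus _ fun n => ?_)⟩
  rw [show x - (p : P) * z = (x - (p : P) * y n) - (p : P) * (z - y n) by ring]
  exact sub_mem (F.anti n (hxy n)) (Ideal.mul_mem_left _ _ (hz n))

end

/-- Existence of a Cohen subring. -/
theorem exists_cohen_subring {p : ℕ} [hp : Fact p.Prime] {k : Type u} [Field k] [CharP k p] {P : Type u}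
    [CommRing P] (F : Filt P) (π : P →+* k) (hπ : Function.Surjective π) (hker : F.I 1 = RingHom.ker π)
    (ψ : P →+* WittVector p k) (hψ0 : ∀ x, (ψ x).coeff 0 = π x)
    (hψ : ∀ n x, x ∈ F.I n → ψ x ∈ RingHom.ker (WittVector.truncate (p := p) (R := k) n)) :
    ∃ (Λ : Subring P) (_ : IsLocalRing Λ), CAlg.IsCohenRing Λ ∧
      IsLocalRing.maximalIdeal Λ = Ideal.span {((p : ℕ) : Λ)} ∧
      RingHom.ker (π.comp Λ.subtype) = IsLocalRing.maximalIdeal Λ ∧
      Function.Surjective (π.comp Λ.subtype) := by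
  obtain ⟨B, hgen1, hind1⟩ := exists_pBase (K := k) p
  have hgen := pow_gen p B hgen1
  have hind := pow_indep p B hind1
  let bt : B → P := fun b => Function.surjInv hπ b
  have hbt : ∀ b : B, π (bt b) = b := fun b => Function.surjInv_eq hπ (b : k)
  let Λ := coeffRing p F bt
  let G := F.restrict Λ (coeffRing_closed (p := p) (F := F) (bt := bt))
  let ρ : Λ →+* k := π.comp Λ.subtype
  have hρ : Function.Surjective ρ := fun c => by
    obtain ⟨z, hz, h⟩ := exists_residue hker hπ hbt hgen c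
    exact ⟨⟨z, hz⟩, h⟩
  have hdiv : ∀ x : Λ, ρ x = 0 → ∃ y : Λ, x = (p : Λ) * y := fun x hx => by
    obtain ⟨y, hy, h⟩ := exists_div_p hker hπ hbt hgen hind ψ hψ0 hψ x.2 hx
    exact ⟨⟨y, hy⟩, Subtype.ext (by simpa using h)⟩
  have hρp : ρ (p : Λ) = 0 := by rw [map_natCast, CharP.cast_eq_zero]
  have hunit : ∀ x : Λ, ρ x ≠ 0 → IsUnit x := fun x hx => by
    obtain ⟨z, hz⟩ := hρ (ρ x)⁻¹
    have h1 : (1 - x * z : Λ) ∈ G.I 1 := by
      show ((1 - x * z : Λ) : P) ∈ F.I 1
      rw [mem_ker_iff hker]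
      show ρ (1 - x * z) = 0
      rw [map_sub, map_one, map_mul, hz, mul_inv_cancel₀ hx, sub_self]
    have := G.isUnit_one_sub h1
    rw [sub_sub_cancel] at this
    exact isUnit_of_mul_isUnit_left this
  have hnu : ∀ x : Λ, ρ x = 0 → ¬ IsUnit x := fun x hx h => not_isUnit_zero (hx ▸ h.map ρ)
  have hwitt : ∀ (x : Λ) n, ψ x ∈ RingHom.ker (WittVector.truncate (p := p) (R := k) n) →
      ∃ y : Λ, x = (p : Λ) ^ n * y := by
    intro x n
    induction n with
    | zero => exact fun _ => ⟨x, by simp⟩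
    | succ n ih =>
      intro h
      obtain ⟨y, rfl⟩ := ih ((wittFilt p k).anti n h)
      have h2 : (ψ y) * (p : WittVector p k) ^ n ∈ RingHom.ker (WittVector.truncate (p := p) (R := k) (n + 1)) := by
        convert h using 1
        push_cast
        rw [map_mul, map_pow, map_natCast, mul_comm]
      obtain ⟨z, rfl⟩ := hdiv y ((hψ0 y).symm.trans (coeff_zero_of_pow_mul h2))
      exact ⟨z, by ring⟩
  have hψinj : ∀ x : Λ, ψ x = 0 → x = 0 := fun x hx => Subtype.ext (F.haus _ fun n =>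
    mem_I_of_witt hker hπ hbt hgen hind ψ hψ0 hψ x.2 (hx ▸ zero_mem _))
  haveI : IsDomain Λ := Function.Injective.isDomain (f := ψ.comp Λ.subtype)
    ((injective_iff_map_eq_zero _).mpr hψinj)
  have hirr : Irreducible (p : Λ) := by
    refine ⟨hnu _ hρp, fun a b hab => ?_⟩
    by_contra hcon
    push Not at hcon
    obtain ⟨a', rfl⟩ := hdiv a (by_contra fun h => hcon.1 (hunit a h))
    obtain ⟨b', rfl⟩ := hdiv b (by_contra fun h => hcon.2 (hunit b h))
    have h := congrArg (fun x : Λ => (ψ x).coeff 1) hab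
    simp only [Subring.coe_mul, Subring.coe_natCast, map_mul, map_natCast] at h
    rw [WittVector.coeff_p_one, show (p : WittVector p k) * ψ a' * ((p : WittVector p k) * ψ b') =
        (ψ a' * ψ b') * (p : WittVector p k) ^ 2 by ring,
      WittVector.mul_pow_charP_coeff_zero (ψ a' * ψ b') (show 1 < 2 by norm_num)] at h
    exact one_ne_zero h
  have hfac : IsDiscreteValuationRing.HasUnitMulPowIrreducibleFactorization Λ := by
    refine ⟨(p : Λ), hirr, fun {x} hx => ?_⟩
    have hex : ∃ n, (ψ x).coeff n ≠ 0 := by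
      by_contra hcon
      push Not at hcon
      exact hx (hψinj x (WittVector.ext fun n => by rw [hcon n, WittVector.zero_coeff]))
    classical
    obtain ⟨m, hm, hlt⟩ : ∃ m, (ψ x).coeff m ≠ 0 ∧ ∀ i < m, (ψ x).coeff i = 0 :=
      ⟨Nat.find hex, Nat.find_spec hex, fun i hi => not_not.mp (Nat.find_min hex hi)⟩
    clear hex
    obtain ⟨y, rfl⟩ := hwitt x m (WittVector.mem_ker_truncate _ _ |>.mpr hlt)
    refine ⟨m, associated_mul_unit_right _ _ (hunit y fun h => hm ?_)⟩
    obtain ⟨z, rfl⟩ := hdiv y h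
    have : ψ (((p : Λ) ^ m * ((p : Λ) * z) : Λ) : P) = ψ z * (p : WittVector p k) ^ (m + 1) := by
      push_cast; simp only [map_mul, map_pow, map_natCast]; ring
    rw [this]
    exact WittVector.mul_pow_charP_coeff_zero _ (Nat.lt_succ_self _)
  haveI : IsDiscreteValuationRing Λ :=
    IsDiscreteValuationRing.ofHasUnitMulPowIrreducibleFactorization hfac
  have hmax : IsLocalRing.maximalIdeal Λ = Ideal.span {(p : Λ)} := hirr.maximalIdeal_eq
  have hkerρ : RingHom.ker ρ = IsLocalRing.maximalIdeal Λ := by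
    refine le_antisymm (fun x hx => ?_) ?_
    · obtain ⟨y, rfl⟩ := hdiv x hx
      rw [hmax]; exact Ideal.mul_mem_right _ _ (Ideal.mem_span_singleton_self _)
    · rw [hmax, Ideal.span_le, Set.singleton_subset_iff]
      exact hρp
  have hGI : ∀ n, G.I n = Ideal.span {(p : Λ)} ^ n := fun n => by
    rw [Ideal.span_singleton_pow]
    refine le_antisymm (fun x hx => ?_) ?_
    · obtain ⟨y, rfl⟩ := hwitt x n (hψ n _ hx)
      exact Ideal.mul_mem_right _ _ (Ideal.mem_span_singleton_self _)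
    · rw [Ideal.span_le, Set.singleton_subset_iff]
      show ((((p : Λ) ^ n : Λ)) : P) ∈ F.I n
      push_cast
      exact F.pow_mem (p_mem hker) n
  exact ⟨Λ, inferInstance, ⟨inferInstance, inferInstance, hmax ▸ G.isAdicComplete _ hGI, p, hp.out, hmax⟩,
    hmax, hkerρ, hρ⟩

end Groth.Agent.Cohen
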